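import Cfsg.Agent.H878.Sz.Bridge

/-!
# Cores with socle `Suz` in degree at most 12, characteristic `≠ 3` (helper878)

`core_Suz` : `card ι = 12`, a scalar of order 3 in `P`, not self-dual, `Fr P p` if `p % 3 = 1`, `Cj P p` if `p % 3 = 2`.
-/

set_option autoImplicit false

namespace Cfsg.Agent.H878.Sz

open Cfsg Cfsg.Spor Cfsg.Geo Cfsg.Agent.H58.SuzRep Cfsg.Agent.H915.LD Module Matrix

universe u

variable {ι : Type} [Fintype ι] [DecidableEq ι] {F : Type u} [Field F] {P : Subgroup (GL ι F)}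

theorem exists_omega (K : Type u) [Field K] [IsAlgClosed K] : ∃ ω : K, ω ^ 2 + ω + 1 = 0 := by
  obtain ⟨x, hx⟩ := IsAlgClosed.exists_root (Polynomial.X ^ 2 + Polynomial.X + 1 : Polynomial K) (by
    have : (Polynomial.X ^ 2 + Polynomial.X + 1 : Polynomial K).degree = 2 := by compute_degree!
    rw [this]; norm_num)
  refine ⟨x, ?_⟩
  simpa [Polynomial.IsRoot] using hx

theorem zeta_six {K : Type u} [Field K] {ζ : K} (h : ζ ^ 4 + ζ ^ 2 + 1 = 0) : ζ ^ 6 = 1 := by
  have : (ζ ^ 2 - 1) * (ζ ^ 4 + ζ ^ 2 + 1) = ζ ^ 6 - 1 := by ring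
  rw [h, mul_zero] at this
  exact (sub_eq_zero.1 this.symm)

theorem frob_pow {K : Type u} [Field K] {ζ : K} (h : ζ ^ 4 + ζ ^ 2 + 1 = 0) {p : ℕ} [hp : Fact p.Prime] [CharP K p]
    (hp1 : p % 3 = 1) : ζ ^ p = ζ := by
  have h2 : p ≠ 2 := by rintro rfl; norm_num at hp1
  have hodd := hp.out.eq_two_or_odd'.resolve_left h2
  obtain ⟨k, hk⟩ : ∃ k, p = 6 * k + 1 := ⟨p / 6, by
    rw [Nat.odd_iff] at hodd
    omega⟩
  rw [hk, pow_succ, pow_mul, zeta_six h, one_pow, one_mul]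

theorem frob_pow' {K : Type u} [Field K] {ζ : K} (h : ζ ^ 4 + ζ ^ 2 + 1 = 0) {p : ℕ} [hp : Fact p.Prime] [CharP K p]
    (hp1 : p % 3 = 2) : ζ ^ p = ζ⁻¹ := by
  apply eq_inv_of_mul_eq_one_left
  rw [← pow_succ]
  rcases hp.out.eq_two_or_odd' with h2 | hodd
  · subst h2
    have h0 : (2 : K) = 0 := CharTwo.two_eq_zero
    have h1 : (ζ ^ 2 + ζ + 1) ^ 2 = 0 := by
      have : (ζ ^ 2 + ζ + 1) ^ 2 = (ζ ^ 4 + ζ ^ 2 + 1) + 2 * (ζ ^ 3 + ζ ^ 2 + ζ) := by ring
      rw [this, h, h0, zero_mul, add_zero]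
    have h3 : ζ ^ 2 + ζ + 1 = 0 := by
      rcases pow_eq_zero_iff (n := 2) (by norm_num) |>.1 h1 with h; exact h
    exact omega_three h3
  · obtain ⟨k, hk⟩ : ∃ k, p + 1 = 6 * k := ⟨(p + 1) / 6, by
      rw [Nat.odd_iff] at hodd
      omega⟩
    rw [hk, pow_mul, zeta_six h, one_pow]

/-- **Cores with socle `Suz`, characteristic `≠ 3`.** -/
theorem core_Suz [Finite F] (hC : Core P) (e : Soc P ≃* Suz) (hn : Fintype.card ι ≤ 12) (p : ℕ) [hp : Fact p.Prime]
    [CharP F p] (hp3 : p ≠ 3) :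
    Fintype.card ι = 12 ∧ (∃ c : F, c ^ 4 + c ^ 2 + 1 = 0 ∧ ∃ g ∈ P, (g : Matrix ι ι F) = c • (1 : Matrix ι ι F)) ∧
      (p % 3 = 1 → Cfsg.Agent.H915.LD.Fr P p) ∧ (p % 3 = 2 → Cj P p) := by
  have := hC.nonempty
  obtain ⟨φ, hφs, hφ⟩ := exists_cov hC e
  let K := AlgebraicClosure F
  have : CharP K p := charP_of_injective_algebraMap (algebraMap F K).injective p
  have h3F : (3 : F) ≠ 0 := by
    intro h
    have h1 : ((3 : ℕ) : F) = 0 := by exact_mod_cast h
    rw [CharP.cast_eq_zero_iff F p] at h1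
    exact hp3 ((Nat.prime_dvd_prime_iff_eq hp.out Nat.prime_three).1 h1)
  have h3 : (3 : K) ≠ 0 := by
    intro h
    apply h3F
    apply (algebraMap F K).injective
    rw [map_ofNat, map_zero]; exact h
  obtain ⟨c, hc⟩ := exists_scalar hφ
  have hfr : finrank K (ι → K) = Fintype.card ι := Module.finrank_fintype_fun_eq_card K
  have hω := exists_omega K
  have hz := matOf_z (K := K) hc
  have hne := matOf_ne_one (K := K) hφ q_a0
  have frame' : ∀ (m : Y →* Matrix ι ι K) (ζ : K), m z = ζ • (1 : Matrix ι ι K) → m (letter 10) ≠ 1 →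
      finrank K (ι → K) = 12 ∧ ∃ v, Cfsg.Agent.H878.Sz.Fr (ofMat m) ζ v := by
    intro m ζ h1 h2
    exact frame (by rw [hfr]; exact hn) h3 (ofMat_z h1) hω (ofMat_ne_one h2)
  obtain ⟨hd, v, hF⟩ := frame' _ _ hz hne
  have hprim : c ^ 4 + c ^ 2 + 1 = 0 := by
    apply (algebraMap F K).injective
    rw [map_add, map_add, map_pow, map_pow, map_one, map_zero]
    exact hF.prim
  refine ⟨by rw [← hfr]; exact hd, ⟨c, hprim, _, (φ z).2, hc⟩, ?_, ?_⟩
  · intro hp1 g hg
    obtain ⟨y, hy⟩ := hφs ⟨g, hg⟩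
    have h1 := frob_z p hz
    rw [frob_pow hF.prim hp1] at h1
    obtain ⟨hd', v', hF'⟩ := frame' _ _ h1 (frob_ne_one p hne)
    have h2 := trace_unique h3 hF hd hF' hd' y
    rw [trace_ofMat, trace_ofMat, trace_frob, trace_matOf, hy, ← map_pow] at h2
    exact ((algebraMap F K).injective h2).symm
  · intro hp1 g hg
    obtain ⟨y, hy⟩ := hφs ⟨g, hg⟩
    have h0 : algebraMap F K c ≠ 0 := by
      intro h
      have := hF.prim
      rw [h] at this
      norm_num at this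
    have h1 := frob_z p (dual_z hz h0)
    rw [inv_pow, frob_pow' hF.prim hp1, inv_inv] at h1
    obtain ⟨hd', v', hF'⟩ := frame' _ _ h1 (frob_ne_one p (dual_ne_one hne))
    have h2 := trace_unique h3 hF hd hF' hd' y⁻¹
    rw [trace_ofMat, trace_ofMat, trace_frob, trace_dual, inv_inv, trace_matOf, trace_matOf, hy, ← map_pow] at h2
    have h4 := (algebraMap F K).injective h2
    rw [← h4, map_inv, hy]
    rfl

/-- a core with a scalar `c`, `c ^ 2 ≠ 1`, is not self-dual -/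
theorem not_sd_of_scalar [Finite F] (hC : Core P) {c : F} {g : GL ι F} (hg : g ∈ P) (hgc : (g : Matrix ι ι F) = c • (1 : Matrix ι ι F))
    (hc : c ^ 2 ≠ 1) : ¬ SD P := by
  intro h
  have hne := hC.nonempty
  have key : ∀ f : (ι → F) → (ι → F) → F, IsBilinearForm f → IsNondegenerateForm f →
      (∀ u v, f (c • u) (c • v) = f u v) → False := by
    intro f hb hn hf
    obtain ⟨i⟩ := hne
    have h1 : ∀ u v, f u v = 0 := by
      intro u v
      have h2 := hf u v
      rw [hb.smul_left, hb.smul_right] at h2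
      have h3 : (c ^ 2 - 1) * f u v = 0 := by
        have : (c ^ 2 - 1) * f u v = c * (c * f u v) - f u v := by ring
        rw [this, h2, sub_self]
      rcases mul_eq_zero.1 h3 with h4 | h4
      · exact absurd (sub_eq_zero.1 h4) hc
      · exact h4
    obtain ⟨⟨x, hx⟩, -⟩ := hn (Pi.single i 1) (by
      intro h
      have h3 := congrFun h i
      rw [Pi.single_eq_same] at h3
      exact one_ne_zero h3)
    exact hx (h1 _ _)
  have hmem : (g : Matrix ι ι F) ∈ matrixSet P := ⟨g, hg, rfl⟩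
  rcases hC.forms_of_sd h with ⟨Q, hQ, hfix⟩ | ⟨f, hf, hfix⟩
  · apply key (QuadraticMap.polar Q) hQ.polar_bilinear hQ.nondegenerate
    intro u v
    have h1 : ∀ w, Q (c • w) = Q w := by
      intro w
      have := hfix _ hmem w
      rwa [hgc, Matrix.smul_mulVec, Matrix.one_mulVec] at this
    rw [QuadraticMap.polar, QuadraticMap.polar, ← smul_add, h1, h1, h1]
  · apply key f hf.bilinear hf.nondegenerate
    intro u v
    have := hfix _ hmem u v
    rwa [hgc, Matrix.smul_mulVec, Matrix.one_mulVec, Matrix.smul_mulVec, Matrix.one_mulVec] at this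

theorem core_Suz_not_sd [Finite F] (hC : Core P) (e : Soc P ≃* Suz) (hn : Fintype.card ι ≤ 12) (p : ℕ)
    [hp : Fact p.Prime] [CharP F p] (hp3 : p ≠ 3) : ¬ SD P := by
  obtain ⟨-, ⟨c, hc, g, hg, hgc⟩, -⟩ := core_Suz hC e hn p hp3
  refine not_sd_of_scalar hC hg hgc ?_
  intro h
  rw [show c ^ 4 = (c ^ 2) ^ 2 by ring, h] at hc
  have h1 : ((3 : ℕ) : F) = 0 := by push_cast; rw [← hc]; norm_num
  rw [CharP.cast_eq_zero_iff F p] at h1
  exact hp3 ((Nat.prime_dvd_prime_iff_eq hp.out Nat.prime_three).1 h1)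

end Cfsg.Agent.H878.Sz
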