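import Cfsg.Agent.H878.Sz.NTrace
import Cfsg.Agent.H878.Sz.MainThree
import Cfsg.Agent.H920.FormUniq

/-!
# Cores with socle `Suz` in degree at most 12, characteristic 3 (helper878)

`core_Suz_three` : `card ι = 12`, `-1 ∈ P`, `SD P`, `Fr P 3`, `FixA P`, not `FixQ P`.
-/

set_option autoImplicit false
set_option maxRecDepth 100000

namespace Cfsg.Agent.H878.Sz

open Cfsg Cfsg.Spor Cfsg.Geo Cfsg.Agent.H58.SuzRep Cfsg.Agent.H915.LD Module Matrix

universe u

theorem q_a : q (N.lt 0) ≠ 1 := by
  intro h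
  obtain ⟨n, hn⟩ := exists_pow_of_ker h
  have hc : ∀ y : Y, N.lt 0 * y = y * N.lt 0 := by
    intro y
    rw [hn]
    exact (Commute.pow_left (z_central y) n).eq
  have h10 : N.lt 10 = N.lt 0 := by
    have h1 : N.V [10, 8] = N.V [8, 0] := N.V_eq (by decide +kernel)
    simp only [N.V_cons, N.V_nil, mul_one] at h1
    rw [← hc] at h1
    exact mul_right_cancel h1
  have h2 : N.lt 2 = 1 := by
    have h1 : N.V [10, 6] = N.V [6, 2, 10] := N.V_eq (by decide +kernel)
    simp only [N.V_cons, N.V_nil, mul_one, h10] at h1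
    rw [hc] at h1
    have h3 := mul_left_cancel h1
    exact (mul_right_cancel (h3.symm.trans (one_mul _).symm))
  have h5 : N.lt 5 = 1 := by
    have h1 : N.V [5, 8] = N.V [8, 2] := N.V_eq (by decide +kernel)
    simp only [N.V_cons, N.V_nil, mul_one, h2] at h1
    exact mul_right_cancel (h1.trans (one_mul _).symm)
  have h1 : N.V [0, 8] = N.V [8, 5, 10, 7, 7, 7] := N.V_eq (by decide +kernel)
  simp only [N.V_cons, N.V_nil, mul_one, h5, h10, one_mul] at h1
  rw [hc] at h1
  have h3 := mul_left_cancel h1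
  have h4 : z ^ 3 = 1 := by
    have h6 : N.lt 0 * (N.lt 7 * (N.lt 7 * N.lt 7)) = N.lt 0 * 1 := by rw [mul_one]; exact h3.symm
    have h7 := mul_left_cancel h6
    have h8 : z * (z * z) = 1 := h7
    rw [pow_succ, pow_two, mul_assoc]; exact h8
  have h6 := orderOf_dvd_of_pow_eq_one h4
  rw [orderOf_z] at h6
  omega

section

variable {ι : Type} [Fintype ι] [DecidableEq ι] {K : Type u} [Field K] [CharP K 3] {i : K}

/-- no invariant symmetric form -/
theorem no_sym (hi : i ^ 2 = -1) {m : Y →* Matrix ι ι K} (hd : finrank K (ι → K) = 12) {u : ι → K}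
    (hF : N.Fr (ofMat m) i u) {J : Matrix ι ι K} (hs : Jᵀ = J) (hm : ∀ g, (m g)ᵀ * J * m g = J) (hdet : J.det ≠ 0) :
    False := by
  have h2 := N.two_ne K
  have hi0 : i ≠ 0 := by rintro rfl; norm_num at hi
  set B : (ι → K) → (ι → K) → K := fun x y => x ⬝ᵥ (J *ᵥ y) with hB
  have inv : ∀ g x y, B (ofMat m g x) (ofMat m g y) = B x y := by
    intro g x y
    rw [hB]
    simp only [ofMat_apply]
    have : x ⬝ᵥ (((m g)ᵀ * J * m g) *ᵥ y) = (m g *ᵥ x) ⬝ᵥ (J *ᵥ (m g *ᵥ y)) := by
      rw [← Matrix.mulVec_mulVec, ← Matrix.mulVec_mulVec, Matrix.dotProduct_mulVec x, Matrix.vecMul_transpose]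
    rw [← this, hm]
  have sym : ∀ x y, B x y = B y x := by
    intro x y
    rw [hB]
    simp only
    rw [Matrix.dotProduct_mulVec, dotProduct_comm, ← Matrix.mulVec_transpose, hs]
  have sl : ∀ (c : K) x y, B (c • x) y = c * B x y := by
    intro c x y; rw [hB]; simp only; rw [smul_dotProduct, smul_eq_mul]
  have sr : ∀ (c : K) x y, B x (c • y) = c * B x y := by
    intro c x y; rw [sym, sl, sym]
  have key : ∀ x a, B u (N.vec (ofMat m) u x a) = 0 := by
    intro x a
    by_cases hx : x = 1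
    · subst hx
      rw [N.vec_one]
      fin_cases a
      · show B u u = 0
        have h1 := inv (N.lt 4) u u
        rw [hF.e, sl, sr, ← mul_assoc, ← pow_two, hi] at h1
        have h3 : 2 * B u u = 0 := by linear_combination -h1
        rcases mul_eq_zero.1 h3 with h | h
        · exact absurd h h2
        · exact h
      · show B u (ofMat m (N.lt 11) u) = 0
        have h1 := inv (N.lt 11) u (ofMat m (N.lt 11) u)
        rw [N.j_j hF.z, sym, ← neg_one_smul K u, sl] at h1
        have h3 : 2 * B u (ofMat m (N.lt 11) u) = 0 := by linear_combination -h1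
        rcases mul_eq_zero.1 h3 with h | h
        · exact absurd h h2
        · exact h
    · have hne := fun e => hx ((N.chi6 h2) e)
      obtain ⟨j, hj⟩ := Function.ne_iff.1 hne
      have h1 := inv (N.lt (N.ks.getD j 0)) u (N.vec (ofMat m) u x a)
      have h3 : ofMat m (N.lt (N.ks.getD j 0)) u = (-1 : K) ^ N.E (N.ks.getD j 0) (N.wR 1) • u := by
        have := N.vec_wt hF 1 0 j
        rwa [N.vec_one] at this
      rw [h3, N.vec_wt hF x a j, sl, sr] at h1
      have h4 : ∀ n : ℕ, (-1 : K) ^ n = 1 ∨ (-1 : K) ^ n = -1 := fun n => neg_one_pow_eq_or K n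
      have h5 : 2 * B u (N.vec (ofMat m) u x a) = 0 := by
        rcases h4 (N.E (N.ks.getD j 0) (N.wR 1)) with e1 | e1 <;>
          rcases h4 (N.E (N.ks.getD j 0) (N.wR x)) with e2 | e2
        · exact (hj (e2.trans e1.symm)).elim
        · rw [e1, e2] at h1; linear_combination -h1
        · rw [e1, e2] at h1; linear_combination -h1
        · exact (hj (e2.trans e1.symm)).elim
      rcases mul_eq_zero.1 h5 with h | h
      · exact absurd h h2
      · exact h
  have hz : ∀ y, B u y = 0 := by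
    intro y
    let T : (ι → K) →ₗ[K] K :=
      { toFun := fun y => y ⬝ᵥ (J *ᵥ u)
        map_add' := fun x y => add_dotProduct x y _
        map_smul' := fun c x => smul_dotProduct c x _ }
    have h1 : T = 0 := by
      apply (N.bas h2 hi hF hd).ext
      rintro ⟨x, a⟩
      rw [N.bas_apply, LinearMap.zero_apply]
      have := key x a
      rw [sym] at this
      exact this
    have h3 := LinearMap.congr_fun h1 y
    rw [LinearMap.zero_apply] at h3
    rw [sym]
    exact h3
  have hJu : J *ᵥ u = 0 := by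
    funext k
    have := hz (Pi.single k 1)
    rw [sym, hB] at this
    simpa using this
  exact hdet (Matrix.exists_mulVec_eq_zero_iff.1 ⟨u, hF.ne, hJu⟩)

end

variable {ι : Type} [Fintype ι] [DecidableEq ι] {F : Type u} [Field F] {P : Subgroup (GL ι F)}

theorem exists_i (K : Type u) [Field K] [IsAlgClosed K] : ∃ i : K, i ^ 2 = -1 := by
  obtain ⟨x, hx⟩ := IsAlgClosed.exists_pow_nat_eq (-1 : K) (n := 2) (by norm_num)
  exact ⟨x, hx⟩

/-- **Cores with socle `Suz`, characteristic 3.** -/
theorem core_Suz_three [Finite F] (hC : Core P) (e : Soc P ≃* Suz) (hn : Fintype.card ι ≤ 12) [CharP F 3] :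
    Fintype.card ι = 12 ∧ (∃ g ∈ P, (g : Matrix ι ι F) = (-1 : F) • (1 : Matrix ι ι F)) ∧ SD P ∧
      Cfsg.Agent.H915.LD.Fr P 3 ∧ FixA P ∧ ¬ FixQ P := by
  have : Fact (Nat.Prime 3) := ⟨Nat.prime_three⟩
  have := hC.nonempty
  obtain ⟨φ, hφs, hφ⟩ := exists_cov hC e
  let K := AlgebraicClosure F
  have : CharP K 3 := charP_of_injective_algebraMap (algebraMap F K).injective 3
  obtain ⟨c, hc⟩ := exists_scalar hφ
  have hfr : finrank K (ι → K) = Fintype.card ι := Module.finrank_fintype_fun_eq_card K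
  obtain ⟨i, hi⟩ := exists_i K
  have hz := matOf_z (K := K) hc
  have hne := matOf_ne_one (K := K) hφ q_a
  have frame' : ∀ (m : Y →* Matrix ι ι K) (ζ : K), m z = ζ • (1 : Matrix ι ι K) → m (N.lt 0) ≠ 1 →
      finrank K (ι → K) = 12 ∧ ∃ v, N.Fr (ofMat m) i v := by
    intro m ζ h1 h2
    exact N.frame (by rw [hfr]; exact hn) (ofMat_z h1) hi (ofMat_ne_one h2)
  obtain ⟨hd, v, hF⟩ := frame' _ _ hz hne
  have hc1 : c = -1 := by
    apply (algebraMap F K).injective
    rw [map_neg, map_one]
    have h1 := hF.z v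
    have h2 : ofMat (matOf K φ) (N.lt 7) v = algebraMap F K c • v := ofMat_z hz v
    rw [h2] at h1
    have h3 : (algebraMap F K c - -1) • v = 0 := by rw [sub_smul, h1, neg_one_smul, sub_self]
    rcases smul_eq_zero.1 h3 with h | h
    · exact sub_eq_zero.1 h
    · exact absurd h hF.ne
  have hc0 : algebraMap F K c ≠ 0 := by
    rw [hc1, map_neg, map_one]; exact neg_ne_zero.2 one_ne_zero
  have hSD : SD P := by
    intro g hg
    obtain ⟨y, hy⟩ := hφs ⟨g, hg⟩
    obtain ⟨hd', v', hF'⟩ := frame' _ _ (dual_z hz hc0) (dual_ne_one hne)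
    have h2 := N.trace_unique hi hF hd hF' hd' y
    rw [trace_ofMat, trace_ofMat, trace_dual, trace_matOf, trace_matOf, hy, map_inv, hy] at h2
    exact ((algebraMap F K).injective h2).symm
  have hFr : Cfsg.Agent.H915.LD.Fr P 3 := by
    intro g hg
    obtain ⟨y, hy⟩ := hφs ⟨g, hg⟩
    obtain ⟨hd', v', hF'⟩ := frame' _ _ (frob_z 3 hz) (frob_ne_one 3 hne)
    have h2 := N.trace_unique hi hF hd hF' hd' y
    rw [trace_ofMat, trace_ofMat, trace_frob, trace_matOf, hy, ← map_pow] at h2
    exact ((algebraMap F K).injective h2).symm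
  have hQ : ¬ FixQ P := by
    rintro ⟨Q, hQ, hfix⟩
    have hinv : ∀ g ∈ P, ∀ x y, QuadraticMap.polar Q ((g : Matrix ι ι F) *ᵥ x) ((g : Matrix ι ι F) *ᵥ y) =
        QuadraticMap.polar Q x y := by
      intro g hg x y
      have hmem : (g : Matrix ι ι F) ∈ matrixSet P := ⟨g, hg, rfl⟩
      rw [QuadraticMap.polar, QuadraticMap.polar, ← Matrix.mulVec_add, hfix _ hmem, hfix _ hmem, hfix _ hmem]
    set G := H920.gram (QuadraticMap.polar Q) with hG
    have hGt : Gᵀ = G := by
      ext a b
      rw [Matrix.transpose_apply, hG, H920.gram, Matrix.of_apply, Matrix.of_apply, QuadraticMap.polar_comm]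
    refine no_sym hi hd hF (J := G.map (algebraMap F K)) ?_ ?_ ?_
    · rw [← Matrix.transpose_map, hGt]
    · intro g
      rw [matOf_apply, ← Matrix.transpose_map, ← Matrix.map_mul, ← Matrix.map_mul]
      rw [hG, H920.gram_invariant hQ.polar_bilinear (hinv _ (φ g).2)]
    · rw [← RingHom.mapMatrix_apply, ← RingHom.map_det]
      intro h
      exact H920.gram_det_ne hQ.polar_bilinear hQ.nondegenerate
        ((algebraMap F K).injective (by rw [h, map_zero]))
  refine ⟨by rw [← hfr]; exact hd, ⟨_, (φ z).2, by rw [hc, hc1]⟩, hSD, hFr, ?_, hQ⟩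
  exact (hC.forms_of_sd hSD).resolve_left hQ

end Cfsg.Agent.H878.Sz
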