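import Cfsg.Agent.H878.Sz.ThreeUniq
import Cfsg.Agent.H915.LD

/-!
# From a core with socle `Suz` to representations of the sixfold cover (helper878)
-/

set_option autoImplicit false

namespace Cfsg.Agent.H878.Sz

open Cfsg Cfsg.Spor Cfsg.Geo Cfsg.Agent.H58.SuzRep Cfsg.Agent.H915.LD Module Matrix

universe u

section mat

variable {ι : Type} [Fintype ι] [DecidableEq ι] {K : Type u} [Field K]

/-- the representation of a matrix representation -/
noncomputable def ofMat (m : Y →* Matrix ι ι K) : Representation K Y (ι → K) :=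
  ((Matrix.toLinAlgEquiv' : Matrix ι ι K ≃ₐ[K] _) : Matrix ι ι K →* ((ι → K) →ₗ[K] (ι → K))).comp m

theorem ofMat_apply (m : Y →* Matrix ι ι K) (g : Y) (v : ι → K) : ofMat m g v = m g *ᵥ v := rfl

theorem trace_ofMat (m : Y →* Matrix ι ι K) (g : Y) : LinearMap.trace K (ι → K) (ofMat m g) = (m g).trace := by
  have h : ofMat m g = Matrix.toLin' (m g) := rfl
  rw [h, Matrix.trace_toLin'_eq]

theorem ofMat_z {m : Y →* Matrix ι ι K} {c : K} (h : m z = c • (1 : Matrix ι ι K)) (v : ι → K) : ofMat m z v = c • v := by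
  rw [ofMat_apply, h, Matrix.smul_mulVec, Matrix.one_mulVec]

theorem ofMat_ne_one {m : Y →* Matrix ι ι K} {g : Y} (h : m g ≠ 1) : ofMat m g ≠ 1 := by
  intro e
  apply h
  have h1 : Matrix.toLin' (m g) = Matrix.toLin' 1 := by rw [Matrix.toLin'_one]; exact e
  exact Matrix.toLin'.injective h1

/-- Frobenius twist -/
noncomputable def frob (p : ℕ) [Fact p.Prime] [CharP K p] (m : Y →* Matrix ι ι K) : Y →* Matrix ι ι K :=
  ((frobenius K p).mapMatrix (m := ι)).toMonoidHom.comp m

theorem frob_apply (p : ℕ) [Fact p.Prime] [CharP K p] (m : Y →* Matrix ι ι K) (g : Y) :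
    frob p m g = (m g).map (frobenius K p) := rfl

/-- the dual -/
noncomputable def dual (m : Y →* Matrix ι ι K) : Y →* Matrix ι ι K where
  toFun g := (m g⁻¹)ᵀ
  map_one' := by rw [inv_one, map_one, Matrix.transpose_one]
  map_mul' g h := by rw [_root_.mul_inv_rev, map_mul, Matrix.transpose_mul]

theorem dual_apply (m : Y →* Matrix ι ι K) (g : Y) : dual m g = (m g⁻¹)ᵀ := rfl

theorem trace_frob (p : ℕ) [Fact p.Prime] [CharP K p] (m : Y →* Matrix ι ι K) (g : Y) :
    (frob p m g).trace = (m g).trace ^ p := by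
  rw [frob_apply, ← frobenius_def, ← RingHom.mapMatrix_apply]
  exact (AddMonoidHom.map_trace (frobenius K p).toAddMonoidHom (m g)).symm

theorem trace_dual (m : Y →* Matrix ι ι K) (g : Y) : (dual m g).trace = (m g⁻¹).trace := by
  rw [dual_apply, Matrix.trace_transpose]

theorem frob_z (p : ℕ) [Fact p.Prime] [CharP K p] {m : Y →* Matrix ι ι K} {c : K} (h : m z = c • (1 : Matrix ι ι K)) :
    frob p m z = (c ^ p) • (1 : Matrix ι ι K) := by
  rw [frob_apply, h]
  ext i j
  rw [Matrix.map_apply, Matrix.smul_apply, Matrix.smul_apply, smul_eq_mul, smul_eq_mul, map_mul, frobenius_def,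
    Matrix.one_apply]
  split_ifs <;> simp

theorem dual_z {m : Y →* Matrix ι ι K} {c : K} (h : m z = c • (1 : Matrix ι ι K)) (hc : c ≠ 0) :
    dual m z = c⁻¹ • (1 : Matrix ι ι K) := by
  have h1 : m z * m z⁻¹ = 1 := by rw [← map_mul, mul_inv_cancel, map_one]
  have h2 : m z⁻¹ = c⁻¹ • (1 : Matrix ι ι K) := by
    rw [h, Matrix.smul_mul, one_mul] at h1
    rw [← h1, smul_smul, inv_mul_cancel₀ hc, one_smul]
  rw [dual_apply, h2, Matrix.transpose_smul, Matrix.transpose_one]

theorem frob_ne_one (p : ℕ) [Fact p.Prime] [CharP K p] {m : Y →* Matrix ι ι K} {g : Y} (h : m g ≠ 1) :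
    frob p m g ≠ 1 := by
  intro e
  apply h
  rw [frob_apply] at e
  have h1 : (m g).map (frobenius K p) = (1 : Matrix ι ι K).map (frobenius K p) := by
    rw [e, Matrix.map_one _ (map_zero _) (map_one _)]
  exact Matrix.map_injective (frobenius K p).injective h1

theorem dual_ne_one {m : Y →* Matrix ι ι K} {g : Y} (h : m g ≠ 1) : dual m g ≠ 1 := by
  intro e
  apply h
  rw [dual_apply, Matrix.transpose_eq_one] at e
  have h1 : m g * m g⁻¹ = 1 := by rw [← map_mul, mul_inv_cancel, map_one]
  rwa [e, mul_one] at h1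

end mat

section core

variable {ι : Type} [Fintype ι] [DecidableEq ι] {F : Type u} [Field F] {P : Subgroup (GL ι F)}

theorem exists_cov [Finite F] (hC : Core P) (e : Soc P ≃* Suz) :
    ∃ φ : Y →* P, Function.Surjective φ ∧ ∀ x, e (toSoc P (φ x)) = q x :=
  cover hC.commutator_top (e.toMonoidHom.comp (toSoc P)) (e.surjective.comp (toSoc_surjective P))
    (by rw [ker_comp e]; exact scalars_le_center)

/-- the matrix representation over a bigger field -/
noncomputable def matOf (K : Type u) [Field K] [Algebra F K] (φ : Y →* P) : Y →* Matrix ι ι K :=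
  (((algebraMap F K).mapMatrix (m := ι)).toMonoidHom.comp
    ((Units.coeHom (Matrix ι ι F)).comp P.subtype)).comp φ

theorem matOf_apply {K : Type u} [Field K] [Algebra F K] (φ : Y →* P) (g : Y) :
    matOf K φ g = (((φ g : P) : GL ι F) : Matrix ι ι F).map (algebraMap F K) := rfl

theorem trace_matOf {K : Type u} [Field K] [Algebra F K] (φ : Y →* P) (g : Y) :
    (matOf K φ g).trace = algebraMap F K (tr ((φ g : P) : GL ι F)) := by
  rw [matOf_apply]
  exact (AddMonoidHom.map_trace (algebraMap F K).toAddMonoidHom _).symm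

theorem exists_scalar [Nonempty ι] {e : Soc P ≃* Suz} {φ : Y →* P} (hφ : ∀ x, e (toSoc P (φ x)) = q x) :
    ∃ c : F, (((φ z : P) : GL ι F) : Matrix ι ι F) = c • (1 : Matrix ι ι F) := by
  have h1 : toSoc P (φ z) = 1 := by
    apply e.injective
    rw [hφ, q_z, map_one]
  have h2 : φ z ∈ (toSoc P).ker := h1
  rw [ker_toSoc, Subgroup.mem_subgroupOf, mem_scalars_iff] at h2
  obtain ⟨c, hc⟩ := h2
  exact ⟨c, hc⟩

theorem matOf_z {K : Type u} [Field K] [Algebra F K] {φ : Y →* P} {c : F}
    (h : (((φ z : P) : GL ι F) : Matrix ι ι F) = c • (1 : Matrix ι ι F)) :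
    matOf K φ z = algebraMap F K c • (1 : Matrix ι ι K) := by
  rw [matOf_apply, h]
  ext i j
  rw [Matrix.map_apply, Matrix.smul_apply, Matrix.smul_apply, smul_eq_mul, smul_eq_mul, map_mul, Matrix.one_apply,
    Matrix.one_apply]
  split_ifs <;> simp

theorem matOf_ne_one {K : Type u} [Field K] [Algebra F K] {e : Soc P ≃* Suz} {φ : Y →* P}
    (hφ : ∀ x, e (toSoc P (φ x)) = q x) {g : Y} (hg : q g ≠ 1) : matOf K φ g ≠ 1 := by
  intro h
  apply hg
  have h1 : φ g = 1 := by
    apply Subtype.ext
    apply Units.ext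
    rw [matOf_apply] at h
    have h2 : (((φ g : P) : GL ι F) : Matrix ι ι F).map (algebraMap F K) = (1 : Matrix ι ι F).map (algebraMap F K) := by
      rw [h, Matrix.map_one _ (map_zero _) (map_one _)]
    exact Matrix.map_injective (algebraMap F K).injective h2
  rw [← hφ, h1, map_one, map_one]

end core

/-- `a₀` is not central. -/
theorem q_a0 : q (letter 10) ≠ 1 := by
  intro h
  obtain ⟨n, hn⟩ := exists_pow_of_ker h
  have hc : ∀ y : Y, letter 10 * y = y * letter 10 := by
    intro y
    rw [hn]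
    exact (Commute.pow_left (z_central y) n).eq
  have key : ∀ k l, eqW [k, 8] [8, l] = true → letter l = letter 10 → letter k = letter 10 := by
    intro k l h1 h2
    have h3 := W_eq h1
    rw [W_cons, W_one, W_cons, W_one, h2, ← hc] at h3
    exact mul_right_cancel h3
  have a1 : letter 11 = letter 10 := key 11 10 (by decide +kernel) rfl
  have a2 : letter 12 = letter 10 := key 12 11 (by decide +kernel) a1
  have a3 : letter 13 = letter 10 := key 13 12 (by decide +kernel) a2
  have a4 : letter 14 = letter 10 := key 14 13 (by decide +kernel) a3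
  have e1 : letter 10 ^ 5 = 1 := by
    have h1 : W [10, 8] = W [8, 10, 10, 11, 12, 12, 14] := W_eq (by decide +kernel)
    simp only [W_cons, W_nil, mul_one, a1, a2, a4] at h1
    rw [hc] at h1
    have h2 := mul_left_cancel h1
    have h3 : letter 10 * 1 = letter 10 * (letter 10 ^ 5) := by
      rw [mul_one]; nth_rewrite 1 [h2]; simp only [pow_succ, pow_zero, one_mul, mul_assoc]
    exact (mul_left_cancel h3).symm
  have e2 : letter 10 ^ 5 * z ^ 2 = 1 := by
    have h1 : W [11, 1] = W [1, 10, 10, 11, 11, 13, 14, 7, 7] := W_eq (by decide +kernel)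
    simp only [W_cons, W_nil, mul_one, a1, a3, a4] at h1
    rw [hc] at h1
    have h2 := mul_left_cancel h1
    have h3 : letter 10 * 1 = letter 10 * (letter 10 ^ 5 * z ^ 2) := by
      rw [mul_one]; nth_rewrite 1 [h2]; simp only [pow_succ, pow_zero, one_mul, mul_assoc]; rfl
    exact (mul_left_cancel h3).symm
  rw [e1, one_mul] at e2
  have h6 := orderOf_dvd_of_pow_eq_one e2
  rw [orderOf_z] at h6
  omega

end Cfsg.Agent.H878.Sz
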