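import Cfsg.Agent.S2048
import Cfsg.Agent.H95.StemCover

/-!
# The sixfold cover of the Suzuki group as the universal cover (helper878)

`Y ≤ GL(12, 7)` of `H58.SuzRep` is perfect, the kernel of `q : Y → Suz` is generated by the scalar `z = 3` of order 6, and
`Y` maps onto every finite perfect central extension of `Suz` (`cover`).
-/

set_option autoImplicit false
set_option maxRecDepth 100000

namespace Cfsg.Agent.H878.Sz

open Subgroup Cfsg Cfsg.Spor Cfsg.Agent.H58.SuzRep

universe u

theorem card_Suz : Nat.card Suz = 448345497600 := Cfsg.Agent.S1694.result.2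

instance finite_Suz : Finite Suz := Nat.finite_of_card_ne_zero (by rw [card_Suz]; norm_num)

theorem perfect_Suz : commutator Suz = ⊤ :=
  Cfsg.Agent.H51.Tools.perfect_of_simple Cfsg.Agent.S1694.result.1 (by rw [card_Suz]; norm_num)

theorem exists_pow_of_ker {y : Y} (hy : q y = 1) : ∃ n, y = z ^ n := by
  obtain ⟨a, ha⟩ := Matrix.GeneralLinearGroup.mem_center_iff_val_mem_range_scalar.1 (center_of_q hy)
  have hne : a ≠ 0 := by
    rintro rfl
    have h1 : ((y : M12ˣ) : M12) = 0 := by rw [← ha]; simp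
    have : Nontrivial (ZMod 7) := ⟨0, 1, by decide⟩
    have h2 := (y : M12ˣ).isUnit.ne_zero
    exact h2 h1
  obtain ⟨n, hn⟩ : ∃ n : ℕ, (3 : ZMod 7) ^ n = a := by
    revert hne
    revert a
    intro a _
    have : ∀ a : ZMod 7, a ≠ 0 → ∃ n : Fin 6, (3 : ZMod 7) ^ (n : ℕ) = a := by decide
    intro h
    obtain ⟨n, hn⟩ := this a h
    exact ⟨n, hn⟩
  refine ⟨n, ?_⟩
  apply Subtype.ext
  apply Units.ext
  rw [coe_z_pow, hn, ← ha]
  ext i j
  rw [Matrix.scalar_apply, Matrix.smul_apply, Matrix.diagonal_apply, Matrix.one_apply]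
  split_ifs <;> simp

theorem ker_q : q.ker = zpowers z := by
  apply le_antisymm
  · intro y hy
    obtain ⟨n, rfl⟩ := exists_pow_of_ker hy
    exact pow_mem (mem_zpowers z) n
  · rw [zpowers_le]
    exact q_z

theorem card_ker_q : Nat.card q.ker = 6 := by
  rw [ker_q, Nat.card_zpowers, orderOf_z]

theorem perfect_Y : commutator Y = ⊤ := by
  rw [eq_top_iff]
  intro y _
  have h1 : q y ∈ (commutator Y).map q := by
    rw [commutator_def, map_commutator, ← MonoidHom.range_eq_map, MonoidHom.range_eq_top.2 q_surj, ← commutator_def,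
      perfect_Suz]
    trivial
  obtain ⟨c, hc, hcy⟩ := h1
  have h2 : q (c⁻¹ * y) = 1 := by rw [map_mul, map_inv, hcy, inv_mul_cancel]
  obtain ⟨n, hn⟩ := exists_pow_of_ker h2
  have h3 : y = c * z ^ n := by rw [← hn, mul_inv_cancel_left]
  rw [h3]
  exact mul_mem hc (pow_mem z_mem n)

/-- `Y` maps onto every finite perfect central extension. -/
theorem cover {P : Type u} [Group P] [Finite P] (hP : commutator P = ⊤) (π : P →* Suz)
    (hs : Function.Surjective π) (hc : π.ker ≤ center P) :
    ∃ φ : Y →* P, Function.Surjective φ ∧ ∀ x, π (φ x) = q x := by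
  refine Cfsg.Agent.H95.StemCover.exists_cover' (A := Multiplicative (ZMod 6)) perfect_Suz Cfsg.Agent.S2048.result q
    (Cfsg.Agent.H95.StemCover.isStem perfect_Y q_surj q_ker) ?_ hP π hs hc
  rw [card_ker_q, Nat.card_congr Multiplicative.toAdd, Nat.card_zmod]

/-- A subgroup of `Y` containing the generators and the scalar `z` is everything. -/
theorem eq_top_of_gens {H : Subgroup Y} (h : ∀ x : Suz.Gen, s x ∈ H) (hz : z ∈ H) : H = ⊤ := by
  have h1 : H.map q = ⊤ := by
    rw [eq_top_iff]
    intro g _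
    have h2 : Subgroup.closure (Set.range on) = ⊤ := PresentedGroup.closure_range_of _
    have h3 : g ∈ Subgroup.closure (Set.range on) := by rw [h2]; trivial
    refine (Subgroup.closure_le _).2 ?_ h3
    rintro _ ⟨x, rfl⟩
    refine ⟨s x, h x, ?_⟩
    apply σ_injective
    rw [σ_q, σ_on]
    rfl
  rw [eq_top_iff]
  intro y _
  have h2 : q y ∈ H.map q := by rw [h1]; trivial
  obtain ⟨c, hc, hcy⟩ := h2
  have h3 : q (c⁻¹ * y) = 1 := by rw [map_mul, map_inv, hcy, inv_mul_cancel]
  obtain ⟨n, hn⟩ := exists_pow_of_ker h3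
  have h4 : y = c * z ^ n := by rw [← hn, mul_inv_cancel_left]
  rw [h4]
  exact mul_mem hc (pow_mem hz n)

theorem z_central (y : Y) : z * y = y * z :=
  (mem_center_iff.1 (q_ker (MonoidHom.mem_ker.2 q_z)) y).symm

theorem z_pow_six : z ^ 6 = 1 := by rw [← orderOf_z]; exact pow_orderOf_eq_one z

end Cfsg.Agent.H878.Sz
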