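import Mathlib

/-!
# Gluing two representations (helper878)

`ρ`, `τ` representations of `G` on `V`, `V'`, `h : V ≃ V'`.

* `S ρ τ h` : the subgroup where `h` intertwines; `Sc` : the same up to scalars;
* `glue` : `d ∈ Sc`, if `S` contains `m` and `d m d⁻¹` for all `m` in a set acting with scalar commutant;
* `trace_eq` : if `Sc = ⊤` and `G` is perfect, the traces agree;
* `linInd_of_wt`, `smul_of_wt` : vectors with different weights; `exists_wt` : common eigenvectors of commuting operators
  of order dividing 3.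
-/

set_option autoImplicit false

namespace Cfsg.Agent.H878.Sz

open Module

section glue

variable {K : Type*} [Field K] {G : Type*} [Group G] {V V' : Type*} [AddCommGroup V] [Module K V]
  [AddCommGroup V'] [Module K V'] (ρ : Representation K G V) (τ : Representation K G V') (h : V ≃ₗ[K] V')

/-- the subgroup on which `h` intertwines -/
def S : Subgroup G where
  carrier := {m | ∀ v, h (ρ m v) = τ m (h v)}
  mul_mem' := by
    intro a b ha hb v
    rw [map_mul, map_mul, Module.End.mul_apply, Module.End.mul_apply, ha, hb]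
  one_mem' := by intro v; simp
  inv_mem' := by
    intro a ha v
    have h1 := ha (ρ a⁻¹ v)
    rw [← Module.End.mul_apply, ← map_mul, mul_inv_cancel, map_one, Module.End.one_apply] at h1
    rw [h1, ← Module.End.mul_apply, ← map_mul, inv_mul_cancel, map_one, Module.End.one_apply]

/-- the subgroup on which `h` intertwines up to scalars -/
def Sc : Subgroup G where
  carrier := {m | ∃ c : Kˣ, ∀ v, h (ρ m v) = (c : K) • τ m (h v)}
  mul_mem' := by
    rintro a b ⟨c, hc⟩ ⟨d, hd⟩
    refine ⟨c * d, fun v => ?_⟩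
    rw [map_mul, map_mul, Module.End.mul_apply, Module.End.mul_apply, hc, hd, map_smul, smul_smul, Units.val_mul]
  one_mem' := ⟨1, by intro v; simp⟩
  inv_mem' := by
    rintro a ⟨c, hc⟩
    refine ⟨c⁻¹, fun v => ?_⟩
    have h1 := hc (ρ a⁻¹ v)
    rw [← Module.End.mul_apply, ← map_mul, mul_inv_cancel, map_one, Module.End.one_apply] at h1
    rw [h1, map_smul, smul_smul, ← Units.val_mul, inv_mul_cancel, Units.val_one, one_smul,
      ← Module.End.mul_apply, ← map_mul, inv_mul_cancel, map_one, Module.End.one_apply]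

variable {ρ τ h}

theorem mem_S {m : G} : m ∈ S ρ τ h ↔ ∀ v, h (ρ m v) = τ m (h v) := Iff.rfl

theorem mem_Sc {m : G} : m ∈ Sc ρ τ h ↔ ∃ c : Kˣ, ∀ v, h (ρ m v) = (c : K) • τ m (h v) := Iff.rfl

theorem S_le_Sc : S ρ τ h ≤ Sc ρ τ h := fun _ hm => ⟨1, fun v => by rw [hm v]; simp⟩

theorem mem_S_of_basis {ι : Type*} (b : Basis ι K V) {m : G} (hb : ∀ i, h (ρ m (b i)) = τ m (h (b i))) :
    m ∈ S ρ τ h := by
  have h1 : h.toLinearMap ∘ₗ ρ m = τ m ∘ₗ h.toLinearMap := b.ext hb
  intro v
  exact LinearMap.congr_fun h1 v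

theorem comm_le : ⁅Sc ρ τ h, Sc ρ τ h⁆ ≤ S ρ τ h := by
  rw [Subgroup.commutator_le]
  rintro a ⟨c, hc⟩ b ⟨d, hd⟩ v
  have ha : ∀ v, h (ρ a⁻¹ v) = (c⁻¹ : Kˣ) • τ a⁻¹ (h v) := by
    intro v
    have h1 := hc (ρ a⁻¹ v)
    rw [← Module.End.mul_apply, ← map_mul, mul_inv_cancel, map_one, Module.End.one_apply] at h1
    rw [h1, map_smul, Units.smul_def, smul_smul, ← Units.val_mul, inv_mul_cancel, Units.val_one, one_smul,
      ← Module.End.mul_apply, ← map_mul, inv_mul_cancel, map_one, Module.End.one_apply]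
  have hb : ∀ v, h (ρ b⁻¹ v) = (d⁻¹ : Kˣ) • τ b⁻¹ (h v) := by
    intro v
    have h1 := hd (ρ b⁻¹ v)
    rw [← Module.End.mul_apply, ← map_mul, mul_inv_cancel, map_one, Module.End.one_apply] at h1
    rw [h1, map_smul, Units.smul_def, smul_smul, ← Units.val_mul, inv_mul_cancel, Units.val_one, one_smul,
      ← Module.End.mul_apply, ← map_mul, inv_mul_cancel, map_one, Module.End.one_apply]
  rw [commutatorElement_def]
  simp only [map_mul, Module.End.mul_apply]
  rw [hc, hd, ha, hb]
  simp only [Units.smul_def, map_smul, smul_smul]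
  have e : (c : K) * d * ((c⁻¹ : Kˣ) : K) * ((d⁻¹ : Kˣ) : K) = 1 := by
    rw [← Units.val_mul, ← Units.val_mul, ← Units.val_mul]
    have : c * d * c⁻¹ * d⁻¹ = 1 := by rw [mul_comm c d, mul_assoc d c, mul_inv_cancel, mul_one, mul_inv_cancel]
    rw [this, Units.val_one]
  first
    | rw [e, one_smul]
    | (rw [show (c : K) * ((d : K) * (((c⁻¹ : Kˣ) : K) * ((d⁻¹ : Kˣ) : K))) = 1 by rw [← e]; ring, one_smul])

/-- **Gluing.** -/
theorem glue {D : Set G} {d : G}
    (hirr : ∀ X : V →ₗ[K] V, (∀ m ∈ D, ∀ v, X (ρ m v) = ρ m (X v)) → ∃ c : K, ∀ v, X v = c • v)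
    (hD : ∀ m ∈ D, m ∈ S ρ τ h ∧ d * m * d⁻¹ ∈ S ρ τ h) : d ∈ Sc ρ τ h := by
  obtain ⟨c, hc⟩ := hirr (h.symm.toLinearMap ∘ₗ τ d⁻¹ ∘ₗ h.toLinearMap ∘ₗ ρ d) (by
    intro m hm v
    obtain ⟨h1, h2⟩ := hD m hm
    show h.symm (τ d⁻¹ (h (ρ d (ρ m v)))) = ρ m (h.symm (τ d⁻¹ (h (ρ d v))))
    have e1 : ρ d (ρ m v) = ρ (d * m * d⁻¹) (ρ d v) := by
      rw [← Module.End.mul_apply, ← Module.End.mul_apply, ← map_mul, ← map_mul, inv_mul_cancel_right]
    rw [e1, h2]
    have e2 : τ d⁻¹ (τ (d * m * d⁻¹) (h (ρ d v))) = τ m (τ d⁻¹ (h (ρ d v))) := by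
      rw [← Module.End.mul_apply, ← Module.End.mul_apply, ← map_mul, ← map_mul]
      congr 2
      group
    rw [e2]
    apply h.injective
    rw [h.apply_symm_apply, h1, h.apply_symm_apply])
  have key : ∀ v, h (ρ d v) = c • τ d (h v) := by
    intro v
    have h1 : h.symm (τ d⁻¹ (h (ρ d v))) = c • v := hc v
    have h2 : τ d⁻¹ (h (ρ d v)) = c • h v := by
      rw [← map_smul, ← h1, h.apply_symm_apply]
    rw [← map_smul, ← h2, ← Module.End.mul_apply, ← map_mul, mul_inv_cancel, map_one, Module.End.one_apply]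
  by_cases hc0 : c = 0
  · refine ⟨1, fun v => ?_⟩
    have hz : ∀ v : V, v = 0 := by
      intro v
      have h1 := key (ρ d⁻¹ v)
      rw [hc0, zero_smul, ← Module.End.mul_apply, ← map_mul, mul_inv_cancel, map_one, Module.End.one_apply] at h1
      exact h.injective (by rw [h1, map_zero])
    rw [hz v]; simp
  · exact ⟨Units.mk0 c hc0, key⟩

theorem S_eq_top (hG : commutator G = ⊤) (hS : Sc ρ τ h = ⊤) : S ρ τ h = ⊤ := by
  rw [eq_top_iff, ← hG, commutator_def]
  have h1 := comm_le (ρ := ρ) (τ := τ) (h := h)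
  rwa [hS] at h1

theorem trace_eq (hG : commutator G = ⊤) (hS : Sc ρ τ h = ⊤) (g : G) :
    LinearMap.trace K V (ρ g) = LinearMap.trace K V' (τ g) := by
  have h1 : g ∈ S ρ τ h := by rw [S_eq_top hG hS]; trivial
  have h2 : τ g = h.conj (ρ g) := by
    ext v
    rw [LinearEquiv.conj_apply_apply, h1, h.apply_symm_apply]
  rw [h2, LinearMap.trace_conj']

end glue

section weights

variable {K : Type*} [Field K] {V : Type*} [AddCommGroup V] [Module K V]

/-- Nonzero vectors with different weights are linearly independent. -/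
theorem linInd_of_wt {r κ : Type*} (f : r → Module.End K V) (χ : κ → r → K) (hχ : Function.Injective χ)
    (v : κ → V) (hv : ∀ x, v x ≠ 0) (hf : ∀ x i, f i (v x) = χ x i • v x) : LinearIndependent K v := by
  classical
  rw [linearIndependent_iff']
  intro s
  induction s using Finset.induction_on with
  | empty => intro g _ i hi; simp at hi
  | insert x₀ s hx₀ ih =>
    intro g hg
    have hs : ∀ x ∈ s, g x = 0 := by
      intro x hx
      have hne : χ x ≠ χ x₀ := fun e => hx₀ (hχ e ▸ hx)
      obtain ⟨i, hi⟩ := Function.ne_iff.1 hne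
      have h1 := congrArg (f i) hg
      rw [map_sum, map_zero] at h1
      have h2 : ∑ y ∈ s, (g y * (χ y i - χ x₀ i)) • v y = 0 := by
        have h3 : ∑ y ∈ insert x₀ s, (g y * (χ y i - χ x₀ i)) • v y = 0 := by
          have e : ∀ y ∈ insert x₀ s, (g y * (χ y i - χ x₀ i)) • v y = f i (g y • v y) - χ x₀ i • (g y • v y) := by
            intro y _
            rw [map_smul, hf, mul_sub, sub_smul, smul_smul, smul_smul, mul_comm (χ x₀ i)]
          rw [Finset.sum_congr rfl e, Finset.sum_sub_distrib, h1, ← Finset.smul_sum, hg, smul_zero, sub_zero]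
        rw [Finset.sum_insert hx₀, sub_self, mul_zero, zero_smul, zero_add] at h3
        exact h3
      have h4 := ih (fun y => g y * (χ y i - χ x₀ i)) h2 x hx
      rcases mul_eq_zero.1 h4 with h5 | h5
      · exact h5
      · exact absurd (sub_eq_zero.1 h5) hi
    intro x hx
    rcases Finset.mem_insert.1 hx with rfl | hx
    · rw [Finset.sum_insert hx₀, Finset.sum_eq_zero (fun y hy => by rw [hs y hy, zero_smul]), add_zero] at hg
      rcases smul_eq_zero.1 hg with h5 | h5
      · exact h5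
      · exact absurd h5 (hv x)
    · exact hs x hx

/-- A vector with the weight of a basis vector is a multiple of it. -/
theorem smul_of_wt {r κ : Type*} (f : r → Module.End K V) (χ : κ → r → K) (hχ : Function.Injective χ)
    (b : Basis κ K V) (hf : ∀ x i, f i (b x) = χ x i • b x) {x₀ : κ} {u : V} (hu : ∀ i, f i u = χ x₀ i • u) :
    ∃ c : K, u = c • b x₀ := by
  classical
  refine ⟨b.repr u x₀, ?_⟩
  have key : ∀ y, y ≠ x₀ → b.repr u y = 0 := by
    intro y hy
    have hne : χ y ≠ χ x₀ := fun e => hy (hχ e)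
    obtain ⟨i, hi⟩ := Function.ne_iff.1 hne
    have h1 : ∀ w : V, b.repr (f i w) y = χ y i * b.repr w y := by
      have h2 : (b.coord y) ∘ₗ (f i) = χ y i • b.coord y := by
        apply b.ext
        intro x
        rw [LinearMap.comp_apply, hf, map_smul, LinearMap.smul_apply, Basis.coord_apply, b.repr_self]
        by_cases e : x = y
        · rw [e]
        · rw [Finsupp.single_eq_of_ne (Ne.symm e), smul_zero, smul_zero]
      intro w
      have h3 := LinearMap.congr_fun h2 w
      rw [LinearMap.comp_apply, LinearMap.smul_apply, Basis.coord_apply, Basis.coord_apply, smul_eq_mul] at h3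
      exact h3
    have h4 := h1 u
    rw [hu, map_smul, Finsupp.smul_apply, smul_eq_mul] at h4
    have h5 : (χ x₀ i - χ y i) * b.repr u y = 0 := by rw [sub_mul, h4, sub_self]
    rcases mul_eq_zero.1 h5 with h6 | h6
    · exact absurd (sub_eq_zero.1 h6).symm hi
    · exact h6
  apply b.repr.injective
  ext y
  rw [map_smul, b.repr_self, Finsupp.smul_apply, smul_eq_mul]
  by_cases e : y = x₀
  · rw [e, Finsupp.single_eq_same, mul_one]
  · rw [key y e, Finsupp.single_eq_of_ne e, mul_zero]

/-- **Common eigenvectors of commuting operators with `f ^ 3 = 1`.** -/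
theorem exists_wt {ω : K} (hω : ω ^ 2 + ω + 1 = 0) (h3 : (3 : K) ≠ 0) : ∀ (l : List (Module.End K V))
    (_ : ∀ f ∈ l, ∀ g ∈ l, ∀ v, f (g v) = g (f v)) (_ : ∀ f ∈ l, ∀ v, f (f (f v)) = v) (U : Submodule K V)
    (_ : ∀ f ∈ l, ∀ u ∈ U, f u ∈ U) (_ : U ≠ ⊥),
    ∃ v ∈ U, v ≠ 0 ∧ ∀ f ∈ l, ∃ j < 3, f v = ω ^ j • v := by
  intro l
  induction l with
  | nil =>
    intro _ _ U _ hne
    obtain ⟨v, hv, hv0⟩ := (Submodule.ne_bot_iff U).1 hne
    exact ⟨v, hv, hv0, by simp⟩
  | cons f l ih =>
    intro hc h1 U hU hne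
    have hω3 : ω ^ 3 = 1 := by
      have : ω ^ 3 - 1 = (ω - 1) * (ω ^ 2 + ω + 1) := by ring
      rw [hω, mul_zero] at this
      exact sub_eq_zero.1 this
    obtain ⟨u, hu, hu0⟩ := (Submodule.ne_bot_iff U).1 hne
    have hf := h1 f List.mem_cons_self
    -- the projections
    obtain ⟨j, hj, w, hw, hw0, hfw⟩ : ∃ j < 3, ∃ w ∈ U, w ≠ 0 ∧ f w = ω ^ j • w := by
      have hfu : f u ∈ U := hU f List.mem_cons_self u hu
      have hffu : f (f u) ∈ U := hU f List.mem_cons_self _ hfu
      by_cases c0 : u + f u + f (f u) = 0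
      · by_cases c1 : u + ω ^ 2 • f u + ω • f (f u) = 0
        · refine ⟨2, by norm_num, u + ω • f u + ω ^ 2 • f (f u), ?_, ?_, ?_⟩
          · exact add_mem (add_mem hu (U.smul_mem _ hfu)) (U.smul_mem _ hffu)
          · intro c2
            apply hu0
            have e : (3 : K) • u = 0 := by
              have e1 : (3 : K) • u = (u + f u + f (f u)) + (u + ω ^ 2 • f u + ω • f (f u)) +
                  (u + ω • f u + ω ^ 2 • f (f u)) - (ω ^ 2 + ω + 1) • f u - (ω ^ 2 + ω + 1) • f (f u) := by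
                module
              rw [e1, c0, c1, c2, hω]
              simp
            rcases smul_eq_zero.1 e with e | e
            · exact absurd e h3
            · exact e
          · have e4 : ω ^ 4 = ω := by rw [show (4 : ℕ) = 3 + 1 from rfl, pow_add, hω3]; ring
            simp only [map_add, map_smul, hf u, smul_add, smul_smul]
            rw [show ω ^ 2 * ω = 1 by rw [← hω3]; ring, show ω ^ 2 * ω ^ 2 = ω by rw [← pow_add]; exact e4]
            module
        · refine ⟨1, by norm_num, u + ω ^ 2 • f u + ω • f (f u), ?_, c1, ?_⟩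
          · exact add_mem (add_mem hu (U.smul_mem _ hfu)) (U.smul_mem _ hffu)
          · simp only [map_add, map_smul, hf u, smul_add, smul_smul]
            rw [pow_one, show ω * ω ^ 2 = 1 by rw [← hω3]; ring, show ω * ω = ω ^ 2 by ring]
            module
      · refine ⟨0, by norm_num, u + f u + f (f u), ?_, c0, ?_⟩
        · exact add_mem (add_mem hu hfu) hffu
        · simp only [map_add, hf u, pow_zero, one_smul]
          abel
    -- induction
    obtain ⟨v, hv, hv0, hv1⟩ := ih (fun a ha b hb => hc a (List.mem_cons_of_mem _ ha) b (List.mem_cons_of_mem _ hb))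
      (fun a ha => h1 a (List.mem_cons_of_mem _ ha)) (U ⊓ LinearMap.ker (f - (ω ^ j) • (1 : Module.End K V))) (by
        rintro g hg x ⟨hx1, hx2⟩
        refine ⟨hU g (List.mem_cons_of_mem _ hg) x hx1, ?_⟩
        rw [SetLike.mem_coe, LinearMap.mem_ker, LinearMap.sub_apply, LinearMap.smul_apply, Module.End.one_apply,
          sub_eq_zero] at hx2 ⊢
        rw [hc f List.mem_cons_self g (List.mem_cons_of_mem _ hg), hx2, map_smul]) (by
        rw [Submodule.ne_bot_iff]
        refine ⟨w, ⟨hw, ?_⟩, hw0⟩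
        rw [SetLike.mem_coe, LinearMap.mem_ker, LinearMap.sub_apply, LinearMap.smul_apply, Module.End.one_apply,
          hfw, sub_self])
    refine ⟨v, hv.1, hv0, ?_⟩
    intro g hg
    rcases List.mem_cons.1 hg with rfl | hg
    · refine ⟨j, hj, ?_⟩
      have h2 := hv.2
      rw [SetLike.mem_coe, LinearMap.mem_ker, LinearMap.sub_apply, LinearMap.smul_apply, Module.End.one_apply,
        sub_eq_zero] at h2
      exact h2
    · exact hv1 g hg

end weights

end Cfsg.Agent.H878.Sz
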