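import Cfsg.Agent.H878.Sz.NWt

/-!
# Representations of `6.Suz` of degree at most 12 in characteristic 3: the frame (helper878)
-/

set_option autoImplicit false
set_option maxRecDepth 100000
set_option linter.unusedSimpArgs false

namespace Cfsg.Agent.H878.Sz.N

open Cfsg Cfsg.Spor Cfsg.Agent.H58.SuzRep Module Cfsg.Agent.H878.Sz

variable {K : Type*} [Field K] {M : Type*} [AddCommGroup M] [Module K M] {ρ : Representation K Y M} {ζ i : K}

theorem wts_getD {n : ℕ} {L : List (List ℕ)} {x : ℕ} (hx : x < L.length) :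
    (wts n L).getD x 0 = actW (L.getD x []) n := by
  simp [wts, List.getD_eq_getElem?_getD, List.getElem?_map, List.getElem?_eq_getElem hx]

theorem getD_all {L : List (List ℕ)} (hL : L.all (fun w => w.all st68) = true) {x : ℕ} (hx : x < L.length) :
    (L.getD x []).all st68 = true := by
  have h1 : L.getD x [] = L[x] := by
    rw [List.getD_eq_getElem?_getD, List.getElem?_eq_getElem hx, Option.getD_some]
  rw [h1]
  exact List.all_eq_true.1 hL _ (List.getElem_mem hx)

theorem isW_getD {n : ℕ} {L : List (List ℕ)} (hL : L.all (fun w => w.all st68) = true) (hn : n < 64) {v : M}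
    (h : IsW ρ v n) (x : Fin (wts n L).length) (j : Fin 5) :
    ρ (lt (ks.getD j 0)) (ρ (V (L.getD x [])) v) = (-1 : K) ^ E (ks.getD j 0) ((wts n L).getD x 0) •
      ρ (V (L.getD x [])) v := by
  have hx : (x : ℕ) < L.length := lt_of_lt_of_eq x.2 (List.length_map _)
  rw [wts_getD hx]
  exact (isW_actW hn h (getD_all hL hx)).1 _ (ks_mem j)

theorem linInd_wts (h2 : (2 : K) ≠ 0) {n : ℕ} {L : List (List ℕ)} (hL : L.all (fun w => w.all st68) = true)
    (hd : dist (wts n L) = true) (hn : n < 64) {v : M} (hv : v ≠ 0) (h : IsW ρ v n) :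
    LinearIndependent K fun x : Fin (wts n L).length => ρ (V (L.getD x [])) v :=
  linInd_of_wt (fun j : Fin 5 => ρ (lt (ks.getD j 0)))
    (fun (x : Fin (wts n L).length) (j : Fin 5) => (-1 : K) ^ E (ks.getD j 0) ((wts n L).getD x 0)) (chi_inj h2 hd) _
    (fun _ => apply_ne hv) (fun x j => isW_getD hL hn h x j)

theorem not_wt_three [FiniteDimensional K M] (hdim : finrank K M ≤ 12) (h2 : (2 : K) ≠ 0) {v : M} (hv : v ≠ 0)
    (h : IsW ρ v 3) : False := by
  have h1 := (linInd_wts h2 w15_st dist15 (by norm_num) hv h).fintype_card_le_finrank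
  rw [Fintype.card_fin] at h1
  have h3 : (wts 3 w15).length = 15 := by decide
  omega

/-! ### the quaternion group -/

theorem e_sq : eqV [4, 4] [7, 7, 7] = true := by decide +kernel
theorem j_sq : eqV [11, 11] [7, 7, 7] = true := by decide +kernel
theorem e_j : eqV [4, 11] [11, 4, 7, 7, 7] = true := by decide +kernel

theorem z3 (hz : ∀ w, ρ (lt 7) w = -w) (v : M) : ρ (V [7, 7, 7]) v = -v := by
  rw [apply_V_cons, apply_V_cons, apply_V_one, hz, hz, hz, neg_neg]

theorem e_e (hz : ∀ w, ρ (lt 7) w = -w) (v : M) : ρ (lt 4) (ρ (lt 4) v) = -v := by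
  have h := apply_eqV (ρ := ρ) e_sq v
  rw [apply_V_cons, apply_V_one, z3 hz] at h
  exact h

theorem j_j (hz : ∀ w, ρ (lt 7) w = -w) (v : M) : ρ (lt 11) (ρ (lt 11) v) = -v := by
  have h := apply_eqV (ρ := ρ) j_sq v
  rw [apply_V_cons, apply_V_one, z3 hz] at h
  exact h

theorem e_j' (hz : ∀ w, ρ (lt 7) w = -w) (v : M) : ρ (lt 4) (ρ (lt 11) v) = -ρ (lt 11) (ρ (lt 4) v) := by
  have h := apply_eqV (ρ := ρ) e_j v
  rw [apply_V_cons, apply_V_one, apply_V_cons, apply_V_cons, z3 hz, map_neg, map_neg] at h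
  exact h

theorem exists_eig (hi : i ^ 2 = -1) (hz : ∀ w, ρ (lt 7) w = -w) {n : ℕ} (hn : n < 64) {v : M} (hv : v ≠ 0)
    (h : IsW ρ v n) : ∃ w, w ≠ 0 ∧ IsW ρ w n ∧ ρ (lt 4) w = i • w := by
  have h1 : IsW ρ (ρ (lt 4) v) n := isW_step chkS4 (pE_id n hn).1 h
  by_cases h0 : ρ (lt 4) v + i • v = 0
  · refine ⟨ρ (lt 11) v, apply_ne hv, isW_step chkS11 (pE_id n hn).2 h, ?_⟩
    rw [e_j' hz, eq_neg_of_add_eq_zero_left h0, map_neg, map_smul, neg_neg]
  · refine ⟨ρ (lt 4) v + i • v, h0, ?_, ?_⟩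
    · intro k hk
      rw [map_add, map_smul, h1 k hk, h k hk, smul_add, smul_comm]
    · rw [map_add, map_smul, e_e hz, smul_add, smul_smul, ← pow_two, hi, neg_one_smul, add_comm]

/-- the pair -/
def prV (ρ : Representation K Y M) (u : M) : Fin 2 → M := ![u, ρ (lt 11) u]

theorem prV_zero (u : M) : prV ρ u 0 = u := rfl
theorem prV_one (u : M) : prV ρ u 1 = ρ (lt 11) u := rfl

theorem prV_linInd (h2 : (2 : K) ≠ 0) (hi : i ^ 2 = -1) (hz : ∀ w, ρ (lt 7) w = -w) {u : M} (hu : u ≠ 0)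
    (he : ρ (lt 4) u = i • u) : LinearIndependent K (prV ρ u) := by
  rw [prV, LinearIndependent.pair_iff]
  intro a b hab
  have hi0 : i ≠ 0 := by rintro rfl; norm_num at hi
  have h1 := congrArg (ρ (lt 4)) hab
  rw [map_add, map_smul, map_smul, e_j' hz, he, map_smul, map_zero] at h1
  have h3 : (2 * i * a) • u = 0 := by
    have : (2 * i * a) • u = (a • i • u + b • -(i • ρ (lt 11) u)) + i • (a • u + b • ρ (lt 11) u) := by module
    rw [this, h1, hab, smul_zero, add_zero]
  have ha : a = 0 := by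
    rcases smul_eq_zero.1 h3 with h | h
    · rcases mul_eq_zero.1 h with h | h
      · rcases mul_eq_zero.1 h with h | h
        · exact absurd h h2
        · exact absurd h hi0
      · exact h
    · exact absurd h hu
  refine ⟨ha, ?_⟩
  rw [ha, zero_smul, zero_add] at hab
  rcases smul_eq_zero.1 hab with h | h
  · exact h
  · exact absurd h (apply_ne hu)

theorem linInd_prV (h2 : (2 : K) ≠ 0) (hi : i ^ 2 = -1) (hz : ∀ w, ρ (lt 7) w = -w) {n : ℕ} {L : List (List ℕ)}
    (hL : L.all (fun w => w.all st68) = true) (hd : dist (wts n L) = true) (hn : n < 64) {v : M} (hv : v ≠ 0)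
    (h : IsW ρ v n) (he : ρ (lt 4) v = i • v) :
    LinearIndependent K fun p : Fin (wts n L).length × Fin 2 => ρ (V (L.getD p.1 [])) (prV ρ v p.2) := by
  refine linInd_blocks (fun j : Fin 5 => ρ (lt (ks.getD j 0)))
    (fun (x : Fin (wts n L).length) (j : Fin 5) => (-1 : K) ^ E (ks.getD j 0) ((wts n L).getD x 0)) (chi_inj h2 hd)
    (fun x a => ρ (V (L.getD x [])) (prV ρ v a)) ?_ ?_
  · intro x
    refine (prV_linInd h2 hi hz hv he).map' (ρ (V (L.getD x []))) ?_
    rw [LinearMap.ker_eq_bot']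
    intro m hm
    by_contra h0
    exact apply_ne h0 hm
  · intro x a j
    refine isW_getD hL hn ?_ x j
    fin_cases a
    · exact h
    · exact isW_step chkS11 (pE_id n hn).2 h

theorem not_wt_seven [FiniteDimensional K M] (hdim : finrank K M ≤ 12) (h2 : (2 : K) ≠ 0) (hi : i ^ 2 = -1)
    (hz : ∀ w, ρ (lt 7) w = -w) {v : M} (hv : v ≠ 0) (h : IsW ρ v 7) : False := by
  obtain ⟨w, hw, hw', he⟩ := exists_eig hi hz (by norm_num) hv h
  have h1 := (linInd_prV h2 hi hz w10_st dist10 (by norm_num) hw hw' he).fintype_card_le_finrank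
  rw [Fintype.card_prod, Fintype.card_fin, Fintype.card_fin] at h1
  have h3 : (wts 7 w10).length = 10 := by decide
  omega

/-- the frame vector -/
structure Fr (ρ : Representation K Y M) (i : K) (u : M) : Prop where
  ne : u ≠ 0
  z : ∀ w, ρ (lt 7) w = -w
  wt : IsW ρ u 2
  e : ρ (lt 4) u = i • u

theorem comm_chk : (ks.all fun k => ks.all fun l => eqV [k, l] [l, k]) = true := by decide +kernel
theorem sq_chk : ([0, 2, 5, 10].all fun k => eqV [k, k] []) = true := by decide +kernel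

/-- **The frame.** -/
theorem frame [CharP K 3] [FiniteDimensional K M] (hdim : finrank K M ≤ 12) (hz : ∀ w, ρ z w = ζ • w)
    (hi : i ^ 2 = -1) (hne : ρ (lt 0) ≠ 1) : finrank K M = 12 ∧ ∃ v, Fr ρ i v := by
  have h2 : (2 : K) ≠ 0 := by
    intro h
    have h3 : (3 : K) = 0 := by exact_mod_cast CharP.cast_eq_zero K 3
    have : (1 : K) = 3 - 2 := by norm_num
    rw [h, h3, sub_zero] at this
    exact one_ne_zero this
  -- `ζ`
  obtain ⟨v0, hv0⟩ : ∃ v, ρ (lt 0) v ≠ v := by
    by_contra h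
    push Not at h
    exact hne (LinearMap.ext h)
  have hv00 : v0 ≠ 0 := by rintro rfl; simp at hv0
  have hζ6 : ζ ^ 6 = 1 := by
    have h1 : ρ (z ^ 6) v0 = ζ ^ 6 • v0 := by
      rw [map_pow]
      simp only [pow_succ, pow_zero, one_mul, Module.End.mul_apply, hz, map_smul, smul_smul]
      congr 1
      ring
    rw [z_pow_six, map_one, Module.End.one_apply] at h1
    have h2 : (1 - ζ ^ 6) • v0 = 0 := by rw [sub_smul, one_smul, ← h1, sub_self]
    rcases smul_eq_zero.1 h2 with h | h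
    · exact (sub_eq_zero.1 h).symm
    · exact absurd h hv00
  have hζ2 : ζ ^ 2 = 1 := by
    have h1 : (ζ ^ 2 - 1) ^ 3 = 0 := by
      have h3 : (3 : K) = 0 := by exact_mod_cast CharP.cast_eq_zero K 3
      have : (ζ ^ 2 - 1) ^ 3 = (ζ ^ 6 - 1) - 3 * (ζ ^ 4 - ζ ^ 2) := by ring
      rw [this, h3, hζ6]; ring
    exact sub_eq_zero.1 (pow_eq_zero_iff (by norm_num) |>.1 h1)
  obtain ⟨e, he2, he⟩ : ∃ e < 2, ζ = (-1 : K) ^ e := by
    have : (ζ - 1) * (ζ + 1) = 0 := by
      have : (ζ - 1) * (ζ + 1) = ζ ^ 2 - 1 := by ring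
      rw [this, hζ2, sub_self]
    rcases mul_eq_zero.1 this with h | h
    · exact ⟨0, by norm_num, by rw [pow_zero]; exact sub_eq_zero.1 h⟩
    · exact ⟨1, by norm_num, by rw [pow_one]; exact eq_neg_of_add_eq_zero_left h⟩
  -- a weight vector
  have comm : ∀ k ∈ ks, ∀ l ∈ ks, ∀ v, ρ (lt k) (ρ (lt l) v) = ρ (lt l) (ρ (lt k) v) := by
    intro k hk l hl v
    have h1 := apply_eqV (ρ := ρ) (List.all_eq_true.1 (List.all_eq_true.1 comm_chk k hk) l hl) v
    rwa [apply_V_cons, apply_V_one, apply_V_cons, apply_V_one] at h1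
  have sq : ∀ k ∈ [0, 2, 5, 10], ∀ v, ρ (lt k) (ρ (lt k) v) = v := by
    intro k hk v
    have h1 := apply_eqV (ρ := ρ) (List.all_eq_true.1 sq_chk k hk) v
    rwa [apply_V_cons, apply_V_one, apply_V_nil] at h1
  have sub : ∀ k ∈ [0, 2, 5, 10], k ∈ ks := by decide
  obtain ⟨v, hvU, hvn, hv⟩ := exists_sgn h2 ([0, 2, 5, 10].map fun k => ρ (lt k))
    (by
      intro f hf g hg v
      obtain ⟨k, hk, rfl⟩ := List.mem_map.1 hf
      obtain ⟨l, hl, rfl⟩ := List.mem_map.1 hg
      exact comm k (sub k hk) l (sub l hl) v)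
    (by
      intro f hf v
      obtain ⟨k, hk, rfl⟩ := List.mem_map.1 hf
      exact sq k hk v)
    (LinearMap.range (ρ (lt 0) - 1))
    (by
      intro f hf u hu
      obtain ⟨k, hk, rfl⟩ := List.mem_map.1 hf
      obtain ⟨w, rfl⟩ := hu
      refine ⟨ρ (lt k) w, ?_⟩
      rw [LinearMap.sub_apply, LinearMap.sub_apply, map_sub, Module.End.one_apply, Module.End.one_apply,
        comm 0 (by decide) k (sub k hk)])
    (by
      intro h
      apply hne
      rw [LinearMap.range_eq_bot, sub_eq_zero] at h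
      exact h)
  have hex : ∀ k ∈ [0, 2, 5, 10], ∃ j < 2, ρ (lt k) v = (-1 : K) ^ j • v := fun k hk =>
    hv _ (List.mem_map.2 ⟨k, hk, rfl⟩)
  obtain ⟨j0, hj0, e0⟩ := hex 0 (by decide)
  obtain ⟨j1, hj1, e1⟩ := hex 2 (by decide)
  obtain ⟨j2, hj2, e2⟩ := hex 5 (by decide)
  obtain ⟨j3, hj3, e3⟩ := hex 10 (by decide)
  have hj01 : j0 = 1 := by
    have : j0 ≠ 0 := by
      rintro rfl
      rw [pow_zero, one_smul] at e0
      obtain ⟨w, hw⟩ := hvU
      rw [LinearMap.sub_apply, Module.End.one_apply] at hw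
      have h1 := sq 0 (by decide) w
      have h3 : ρ (lt 0) w = v + w := by rw [← hw]; abel
      rw [h3, map_add, e0, h3] at h1
      have h4 : (2 : K) • v = 0 := by
        have h5 : (2 : K) • v = (v + (v + w)) - w := by module
        rw [h5, h1, sub_self]
      rcases smul_eq_zero.1 h4 with h | h
      · exact h2 h
      · exact hvn h
    omega
  obtain ⟨n, hn, n0, n1, n2, n3, n4⟩ := exists_n hj0 hj1 hj2 hj3 he2
  have hW : IsW ρ v n := by
    intro k hk
    have key : ∀ {a : ℕ} {b : ℕ}, b % 2 = a → ∀ {x : M}, x = (-1 : K) ^ a • v → x = (-1 : K) ^ b • v := by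
      intro a b hab x hx
      rw [neg_one_pow_eq_pow_mod_two, hab]
      exact hx
    simp only [ks, List.mem_cons, List.not_mem_nil, or_false] at hk
    rcases hk with rfl | rfl | rfl | rfl | rfl
    · exact key n0 e0
    · exact key n1 e1
    · exact key n2 e2
    · exact key n3 e3
    · exact key n4 (by rw [← he]; exact hz v)
  obtain ⟨hst, h3⟩ := tb_chk n hn (by rw [n0, hj01])
  obtain ⟨hw, -⟩ := isW_actW hn hW hst
  set w := ρ (V (tb.getD n [])) v with hwdef
  have hwn : w ≠ 0 := apply_ne hvn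
  have zz : ∀ {m : ℕ}, IsW ρ w m → E 7 m % 2 = 1 → ∀ x, ρ (lt 7) x = -x := by
    intro m hm hm1 x
    have h1 := hm 7 (by decide)
    have h4 : ρ (lt 7) w = ζ • w := hz w
    rw [h4, neg_one_pow_eq_pow_mod_two, hm1, pow_one] at h1
    have h5 : (ζ - -1) • w = 0 := by rw [sub_smul, h1, sub_self]
    have h6 : ζ = -1 := by
      rcases smul_eq_zero.1 h5 with h | h
      · exact sub_eq_zero.1 h
      · exact absurd h hwn
    have h7 : ρ (lt 7) x = ζ • x := hz x
    rw [h7, h6, neg_one_smul]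
  rcases h3 with h3 | h3 | h3
  · exact absurd (not_wt_three hdim h2 hwn (isW_congr h3 hw)) (by simp)
  · have h4 := isW_congr h3 hw
    exact absurd (not_wt_seven hdim h2 hi (zz h4 (by decide)) hwn h4) (by simp)
  · have h4 := isW_congr h3 hw
    have hz' := zz h4 (by decide)
    obtain ⟨u, hu, hu', hue⟩ := exists_eig hi hz' (by norm_num) hwn h4
    have h1 := (linInd_prV h2 hi hz' rep_st dist6 (by norm_num) hu hu' hue).fintype_card_le_finrank
    rw [Fintype.card_prod, Fintype.card_fin, Fintype.card_fin] at h1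
    have h3 : (wts 2 ((List.range 6).map rep)).length = 6 := by decide
    exact ⟨by omega, u, hu, hz', hu', hue⟩

end Cfsg.Agent.H878.Sz.N
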