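import Cfsg.Agent.H878.Sz.Glue

/-!
# Blocks of weight vectors, commuting involutions (helper878)
-/

set_option autoImplicit false

namespace Cfsg.Agent.H878.Sz.N

open Module Cfsg.Agent.H878.Sz

variable {K : Type*} [Field K] {V : Type*} [AddCommGroup V] [Module K V]

/-- A sum of vectors with different weights is zero only if all are zero. -/
theorem eq_zero_of_sum_wt {r κ : Type*} (f : r → Module.End K V) (χ : κ → r → K) (hχ : Function.Injective χ)
    (s : Finset κ) : ∀ (w : κ → V) (_ : ∀ x i, f i (w x) = χ x i • w x) (_ : ∑ x ∈ s, w x = 0), ∀ x ∈ s, w x = 0 := by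
  classical
  induction s using Finset.induction_on with
  | empty => intro w _ _ x hx; simp at hx
  | insert x₀ s hx₀ ih =>
    intro w hf hg
    have hs : ∀ x ∈ s, w x = 0 := by
      intro x hx
      have hne : χ x ≠ χ x₀ := fun e => hx₀ (hχ e ▸ hx)
      obtain ⟨i, hi⟩ := Function.ne_iff.1 hne
      have h1 := congrArg (f i) hg
      rw [map_sum, map_zero] at h1
      have h2 : ∑ y ∈ s, (χ y i - χ x₀ i) • w y = 0 := by
        have h3 : ∑ y ∈ insert x₀ s, (χ y i - χ x₀ i) • w y = 0 := by
          have e : ∀ y ∈ insert x₀ s, (χ y i - χ x₀ i) • w y = f i (w y) - χ x₀ i • w y := by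
            intro y _
            rw [hf, sub_smul]
          rw [Finset.sum_congr rfl e, Finset.sum_sub_distrib, h1, ← Finset.smul_sum, hg, smul_zero, sub_zero]
        rw [Finset.sum_insert hx₀, sub_self, zero_smul, zero_add] at h3
        exact h3
      have h4 := ih (fun y => (χ y i - χ x₀ i) • w y) (fun y j => by rw [map_smul, hf, smul_comm]) h2 x hx
      rcases smul_eq_zero.1 h4 with h5 | h5
      · exact absurd (sub_eq_zero.1 h5) hi
      · exact h5
    intro x hx
    rcases Finset.mem_insert.1 hx with rfl | hx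
    · rw [Finset.sum_insert hx₀, Finset.sum_eq_zero hs, add_zero] at hg
      exact hg
    · exact hs x hx

/-- Blocks of linearly independent vectors with different weights. -/
theorem linInd_blocks {r κ : Type*} (f : r → Module.End K V) (χ : κ → r → K)
    (hχ : Function.Injective χ) (v : κ → Fin 2 → V) (hv : ∀ x, LinearIndependent K (v x))
    (hf : ∀ x a i, f i (v x a) = χ x i • v x a) : LinearIndependent K (fun p : κ × Fin 2 => v p.1 p.2) := by
  classical
  rw [linearIndependent_iff']
  intro s g hg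
  -- extend by zero to a product
  set g' : κ × Fin 2 → K := fun p => if p ∈ s then g p else 0 with hg'
  set S : Finset κ := s.image Prod.fst with hS
  have h1 : ∑ x ∈ S, ∑ a : Fin 2, g' (x, a) • v x a = 0 := by
    rw [← Finset.sum_product']
    have h2 : s ⊆ S ×ˢ (Finset.univ : Finset (Fin 2)) := by
      intro p hp
      exact Finset.mem_product.2 ⟨Finset.mem_image_of_mem _ hp, Finset.mem_univ _⟩
    rw [← Finset.sum_subset h2 (f := fun p => g' (p.1, p.2) • v p.1 p.2)]
    · rw [← hg]
      refine Finset.sum_congr rfl fun p hp => ?_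
      have : g' (p.1, p.2) = g p := by rw [hg']; simp only [Prod.mk.eta]; rw [if_pos hp]
      rw [this]
    · intro p _ hp
      have : g' (p.1, p.2) = 0 := by rw [hg']; simp only [Prod.mk.eta]; rw [if_neg hp]
      rw [this, zero_smul]
  have h3 := eq_zero_of_sum_wt f χ hχ S (fun x => ∑ a : Fin 2, g' (x, a) • v x a) (fun x i => by
    rw [map_sum, Finset.smul_sum]
    refine Finset.sum_congr rfl fun a _ => ?_
    rw [map_smul, hf, smul_comm]) h1
  intro p hp
  have h4 := h3 p.1 (Finset.mem_image_of_mem _ hp)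
  have h5 := (Fintype.linearIndependent_iff.1 (hv p.1)) (fun a => g' (p.1, a)) h4 p.2
  have : g' (p.1, p.2) = g p := by rw [hg']; simp only [Prod.mk.eta]; rw [if_pos hp]
  rw [← this]
  exact h5

/-- A vector with the weight of a block is in the span of the block. -/
theorem of_wt_blocks {r κ : Type*} (f : r → Module.End K V) (χ : κ → r → K) (hχ : Function.Injective χ)
    (b : Basis (κ × Fin 2) K V) (hf : ∀ x a i, f i (b (x, a)) = χ x i • b (x, a)) {x₀ : κ} {u : V}
    (hu : ∀ i, f i u = χ x₀ i • u) : ∃ c₀ c₁ : K, u = c₀ • b (x₀, 0) + c₁ • b (x₀, 1) := by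
  classical
  refine ⟨b.repr u (x₀, 0), b.repr u (x₀, 1), ?_⟩
  have key : ∀ y a, y ≠ x₀ → b.repr u (y, a) = 0 := by
    intro y a hy
    have hne : χ y ≠ χ x₀ := fun e => hy (hχ e)
    obtain ⟨i, hi⟩ := Function.ne_iff.1 hne
    have h1 : ∀ w : V, b.repr (f i w) (y, a) = χ y i * b.repr w (y, a) := by
      have h2 : (b.coord (y, a)) ∘ₗ (f i) = χ y i • b.coord (y, a) := by
        apply b.ext
        rintro ⟨x, c⟩
        rw [LinearMap.comp_apply, hf, map_smul, LinearMap.smul_apply, Basis.coord_apply, b.repr_self]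
        by_cases e : (x, c) = (y, a)
        · have := congrArg Prod.fst e
          simp only at this
          rw [e, this]
        · rw [Finsupp.single_eq_of_ne (Ne.symm e), smul_zero, smul_zero]
      intro w
      have h3 := LinearMap.congr_fun h2 w
      rw [LinearMap.comp_apply, LinearMap.smul_apply, Basis.coord_apply, Basis.coord_apply, smul_eq_mul] at h3
      exact h3
    have h4 := h1 u
    rw [hu, map_smul, Finsupp.smul_apply, smul_eq_mul] at h4
    have h5 : (χ x₀ i - χ y i) * b.repr u (y, a) = 0 := by rw [sub_mul, h4, sub_self]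
    rcases mul_eq_zero.1 h5 with h6 | h6
    · exact absurd (sub_eq_zero.1 h6).symm hi
    · exact h6
  apply b.repr.injective
  ext ⟨y, a⟩
  rw [map_add, map_smul, map_smul, b.repr_self, b.repr_self, Finsupp.add_apply, Finsupp.smul_apply,
    Finsupp.smul_apply, smul_eq_mul, smul_eq_mul]
  by_cases e : y = x₀
  · subst e
    fin_cases a
    · simp
    · simp
  · rw [key y a e, Finsupp.single_eq_of_ne (fun h => e (congrArg Prod.fst h)),
      Finsupp.single_eq_of_ne (fun h => e (congrArg Prod.fst h)), mul_zero, mul_zero, add_zero]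

/-- **Common eigenvectors of commuting involutions.** -/
theorem exists_sgn (h2 : (2 : K) ≠ 0) : ∀ (l : List (Module.End K V))
    (_ : ∀ f ∈ l, ∀ g ∈ l, ∀ v, f (g v) = g (f v)) (_ : ∀ f ∈ l, ∀ v, f (f v) = v) (U : Submodule K V)
    (_ : ∀ f ∈ l, ∀ u ∈ U, f u ∈ U) (_ : U ≠ ⊥),
    ∃ v ∈ U, v ≠ 0 ∧ ∀ f ∈ l, ∃ j < 2, f v = (-1 : K) ^ j • v := by
  intro l
  induction l with
  | nil =>
    intro _ _ U _ hne
    obtain ⟨v, hv, hv0⟩ := (Submodule.ne_bot_iff U).1 hne
    exact ⟨v, hv, hv0, by simp⟩
  | cons f l ih =>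
    intro hc h1 U hU hne
    obtain ⟨u, hu, hu0⟩ := (Submodule.ne_bot_iff U).1 hne
    have hf := h1 f List.mem_cons_self
    obtain ⟨j, hj, w, hw, hw0, hfw⟩ : ∃ j < 2, ∃ w ∈ U, w ≠ 0 ∧ f w = (-1 : K) ^ j • w := by
      have hfu : f u ∈ U := hU f List.mem_cons_self u hu
      by_cases c0 : u + f u = 0
      · refine ⟨1, by norm_num, u - f u, sub_mem hu hfu, ?_, ?_⟩
        · intro c1
          apply hu0
          have e : (2 : K) • u = 0 := by
            have e1 : (2 : K) • u = (u + f u) + (u - f u) := by module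
            rw [e1, c0, c1, add_zero]
          rcases smul_eq_zero.1 e with e | e
          · exact absurd e h2
          · exact e
        · rw [map_sub, hf, pow_one]; module
      · exact ⟨0, by norm_num, u + f u, add_mem hu hfu, c0, by rw [map_add, hf, pow_zero, one_smul, add_comm]⟩
    obtain ⟨v, hv, hv0, hv1⟩ := ih (fun a ha b hb => hc a (List.mem_cons_of_mem _ ha) b (List.mem_cons_of_mem _ hb))
      (fun a ha => h1 a (List.mem_cons_of_mem _ ha)) (U ⊓ LinearMap.ker (f - ((-1 : K) ^ j) • (1 : Module.End K V))) (by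
        rintro g hg x ⟨hx1, hx2⟩
        refine ⟨hU g (List.mem_cons_of_mem _ hg) x hx1, ?_⟩
        rw [SetLike.mem_coe, LinearMap.mem_ker, LinearMap.sub_apply, LinearMap.smul_apply, Module.End.one_apply,
          sub_eq_zero] at hx2 ⊢
        rw [hc f List.mem_cons_self g (List.mem_cons_of_mem _ hg), hx2, map_smul]) (by
        rw [Submodule.ne_bot_iff]
        refine ⟨w, ⟨hw, ?_⟩, hw0⟩
        rw [SetLike.mem_coe, LinearMap.mem_ker, LinearMap.sub_apply, LinearMap.smul_apply, Module.End.one_apply,
          hfw, sub_self])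
    refine ⟨v, hv.1, hv0, ?_⟩
    intro g hg
    rcases List.mem_cons.1 hg with rfl | hg
    · refine ⟨j, hj, ?_⟩
      have h2 := hv.2
      rw [SetLike.mem_coe, LinearMap.mem_ker, LinearMap.sub_apply, LinearMap.smul_apply, Module.End.one_apply,
        sub_eq_zero] at h2
      exact h2
    · exact hv1 g hg

end Cfsg.Agent.H878.Sz.N
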