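import Cfsg.Agent.H878.Sz.NUniq

/-!
# Representations of `6.Suz` of degree at most 12 in characteristic 3: the stabiliser of a block (helper878)

`nm_V` : words of the stabiliser of the block act in the same way in two representations.
-/

set_option autoImplicit false
set_option maxRecDepth 100000
set_option linter.unusedSimpArgs false

namespace Cfsg.Agent.H878.Sz.N

open Cfsg Cfsg.Spor Cfsg.Agent.H58.SuzRep Module Cfsg.Agent.H878.Sz

section

variable {K : Type*} [Field K] {M : Type*} [AddCommGroup M] [Module K M] {ρ : Representation K Y M} {ζ i : K}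
  {M' : Type*} [AddCommGroup M'] [Module K M'] {τ : Representation K Y M'}

/-! ### the elements `κ` -/

/-- the facts on `κ` -/
theorem k_spec {k : ℕ} (hk : k ∈ [12, 13, 14, 15]) : eqV [k, 4] ([4, k] ++ ce k) = true ∧
    eqV [k, 11] ([11, k] ++ cj k) = true ∧ eqV ([8] ++ kw k) ([k] ++ kw k ++ [8] ++ kb k) = true ∧
    (ce k).all stB = true ∧ (cj k).all stB = true ∧ (kb k).all stB = true ∧ (kw k).all stK = true ∧
    sumE (ce k) 2 % 2 = 0 ∧ sumE (cj k) 2 % 2 = 0 ∧ sumE (kb k) 2 % 2 = 0 ∧ chkS k = true ∧ pE k 2 2 = true := by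
  have h := List.all_eq_true.1 k_chk k hk
  simp only [Bool.and_eq_true] at h
  obtain ⟨⟨⟨⟨⟨⟨⟨⟨⟨⟨⟨h1, h2⟩, h3⟩, h4⟩, h5⟩, h6⟩, h7⟩, h8⟩, h9⟩, h10⟩, h11⟩, h12⟩ := h
  exact ⟨h1, h2, h3, h4, h5, h6, h7, Nat.eq_of_beq_eq_true h8, Nat.eq_of_beq_eq_true h9, Nat.eq_of_beq_eq_true h10,
    h11, h12⟩

theorem stK_mem {k : ℕ} (h : stK k = true) : k ∈ [12, 13, 14, 15] := by
  unfold stK at h
  simp only [Bool.or_eq_true] at h
  rcases h with ((h | h) | h) | h <;> (have := Nat.eq_of_beq_eq_true h; subst this; decide)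

theorem R_even {u : M} (hF : Fr ρ i u) {s : List ℕ} (hs : s.all stB = true) (h0 : sumE s 2 % 2 = 0) :
    R ρ u (V s) 1 := by
  have h := R_ks hF hs
  rwa [neg_one_pow_eq_pow_mod_two, h0, pow_zero, one_smul] at h

theorem R_V_cons {u : M} {k : ℕ} {s : List ℕ} {L L' : Matrix (Fin 2) (Fin 2) K} (h : R ρ u (lt k) L)
    (h' : R ρ u (V s) L') : R ρ u (V (k :: s)) (L * L') := by
  rw [V_cons]; exact R_mul h h'

theorem R_V_append {u : M} {s t : List ℕ} {L L' : Matrix (Fin 2) (Fin 2) K} (h : R ρ u (V s) L)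
    (h' : R ρ u (V t) L') : R ρ u (V (s ++ t)) (L * L') := by
  rw [V_append]; exact R_mul h h'

theorem R_V_one {u : M} {k : ℕ} {L : Matrix (Fin 2) (Fin 2) K} (h : R ρ u (lt k) L) : R ρ u (V [k]) L := by
  rw [V_one]; exact h

theorem k_scalar (h2 : (2 : K) ≠ 0) (hi : i ^ 2 = -1) {u : M} (hF : Fr ρ i u) (hd : finrank K M = 12) {k : ℕ}
    (hk : k ∈ [12, 13, 14, 15]) : ∃ c : K, c ≠ 0 ∧ R ρ u (lt k) (c • 1) := by
  obtain ⟨h1, h3, -, h4, h5, -, -, h6, h7, -, h8, h9⟩ := k_spec hk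
  have hl := prV_linInd h2 hi hF.z hF.ne hF.e
  obtain ⟨L, hL⟩ := R_exists h2 hi hF hd h8 h9
  obtain ⟨c, hc⟩ := scalar_of_comm h2 hi (L := L) (by
      have a1 := R_V_cons hL (R_V_one (R_e hF))
      have a2 := R_V_append (R_V_cons (R_e hF) (R_V_one hL)) (R_even hF h4 h6)
      rw [mul_one] at a2
      refine R_uniq hl a1 ?_
      rw [V_eq h1]
      exact a2) (by
      have a1 := R_V_cons hL (R_V_one (R_j hF))
      have a2 := R_V_append (R_V_cons (R_j hF) (R_V_one hL)) (R_even hF h5 h7)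
      rw [mul_one] at a2
      refine R_uniq hl a1 ?_
      rw [V_eq h3]
      exact a2)
  refine ⟨c, ?_, by rw [← hc]; exact hL⟩
  rintro rfl
  have h10 := hL 0
  rw [hc, zero_smul, Matrix.zero_apply, Matrix.zero_apply, zero_smul, zero_smul, add_zero] at h10
  exact apply_ne hF.ne h10

theorem kword_scalar (h2 : (2 : K) ≠ 0) (hi : i ^ 2 = -1) {u : M} (hF : Fr ρ i u) (hd : finrank K M = 12) :
    ∀ {s : List ℕ}, s.all stK = true → ∃ c : K, c ≠ 0 ∧ R ρ u (V s) (c • 1)
  | [], _ => ⟨1, one_ne_zero, by rw [one_smul, V_nil]; exact R_one⟩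
  | k :: s, hs => by
    rw [List.all_cons, Bool.and_eq_true] at hs
    obtain ⟨c, hc, h⟩ := k_scalar h2 hi hF hd (stK_mem hs.1)
    obtain ⟨c', hc', h'⟩ := kword_scalar h2 hi hF hd hs.2
    refine ⟨c * c', mul_ne_zero hc hc', ?_⟩
    have h3 := R_V_cons h h'
    rwa [Matrix.smul_mul, one_mul, smul_smul] at h3

theorem R_k (h2 : (2 : K) ≠ 0) (hi : i ^ 2 = -1) {u : M} (hF : Fr ρ i u) (hd : finrank K M = 12) {k : ℕ}
    (hk : k ∈ [12, 13, 14, 15]) : R ρ u (lt k) 1 := by
  obtain ⟨-, -, h1, -, -, h3, h4, -, -, h5, -, -⟩ := k_spec hk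
  have hl := prV_linInd h2 hi hF.z hF.ne hF.e
  obtain ⟨c, hc, h⟩ := k_scalar h2 hi hF hd hk
  obtain ⟨c', hc', h'⟩ := kword_scalar h2 hi hF hd h4
  obtain ⟨L, hL⟩ := R_exists h2 hi hF hd chkS8 pE8
  have a1 := R_V_append (R_V_one hL) h'
  have a2 := R_V_append (R_V_append (R_V_append (R_V_one h) h') (R_V_one hL)) (R_even hF h3 h5)
  have a3 := R_uniq hl a1 (by rw [V_eq h1]; exact a2)
  rw [mul_one, Matrix.mul_smul, mul_one, Matrix.smul_mul, one_mul, smul_smul, Matrix.smul_mul, one_mul] at a3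
  have hL0 : L ≠ 0 := by
    rintro rfl
    have h10 := hL 0
    rw [Matrix.zero_apply, Matrix.zero_apply, zero_smul, zero_smul, add_zero] at h10
    exact apply_ne hF.ne h10
  have h6 : (c' - c * c') • L = 0 := by rw [sub_smul, ← a3, sub_self]
  have h7 : c' - c * c' = 0 := (smul_eq_zero.1 h6).resolve_right hL0
  have h8 : c = 1 := by
    have : c' * (1 - c) = 0 := by linear_combination h7
    rcases mul_eq_zero.1 this with h | h
    · exact absurd h hc'
    · exact (sub_eq_zero.1 h).symm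
  rw [h8, one_smul] at h
  exact h

/-! ### the group `Q` -/

/-- the matrices of the letters of `Q` -/
noncomputable def Lc (i : K) (k : ℕ) : Matrix (Fin 2) (Fin 2) K :=
  if k = 4 then Ee i else if k = 11 then Jj K else if stK k = true then 1 else (-1 : K) ^ E k 2 • 1

theorem R_lc (h2 : (2 : K) ≠ 0) (hi : i ^ 2 = -1) {u : M} (hF : Fr ρ i u) (hd : finrank K M = 12) {k : ℕ}
    (hk : stQ k = true) : R ρ u (lt k) (Lc i k) := by
  unfold stQ at hk
  simp only [Bool.or_eq_true] at hk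
  unfold Lc
  by_cases h4 : k = 4
  · subst h4; rw [if_pos rfl]; exact R_e hF
  by_cases h11 : k = 11
  · subst h11; rw [if_neg h4, if_pos rfl]; exact R_j hF
  rw [if_neg h4, if_neg h11]
  by_cases hK : stK k = true
  · rw [if_pos hK]; exact R_k h2 hi hF hd (stK_mem hK)
  · rw [if_neg hK]
    rcases hk with ((hk | hk) | hk) | hk
    · have h := R_ks hF (s := [k]) (by rw [List.all_cons, hk]; rfl)
      rw [V_one] at h
      simpa [sumE] using h
    · exact absurd (Nat.eq_of_beq_eq_true hk) h4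
    · exact absurd (Nat.eq_of_beq_eq_true hk) h11
    · exact absurd hk hK

/-- the matrices of the words of `Q` -/
noncomputable def Lw (i : K) (s : List ℕ) : Matrix (Fin 2) (Fin 2) K := (s.map (Lc i)).prod

theorem R_lw (h2 : (2 : K) ≠ 0) (hi : i ^ 2 = -1) {u : M} (hF : Fr ρ i u) (hd : finrank K M = 12) :
    ∀ {s : List ℕ}, s.all stQ = true → R ρ u (V s) (Lw i s)
  | [], _ => by rw [V_nil]; exact R_one
  | k :: s, hs => by
    rw [List.all_cons, Bool.and_eq_true] at hs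
    have h3 := R_V_cons (R_lc h2 hi hF hd hs.1) (R_lw h2 hi hF hd hs.2)
    rwa [Lw, List.map_cons, List.prod_cons]

/-! ### elements of order 3 -/

theorem t_spec {k : ℕ} (hk : k ∈ [16, 17, 18]) : eqV [k, 4] (te k ++ [k]) = true ∧
    eqV [k, 11] (tj k ++ [k]) = true ∧ eqV [k, k, k] [] = true ∧ (te k).all stQ = true ∧ (tj k).all stQ = true ∧
    chkS k = true ∧ pE k 2 2 = true := by
  have h := List.all_eq_true.1 t_chk k hk
  simp only [Bool.and_eq_true] at h
  obtain ⟨⟨⟨⟨⟨⟨h1, h2⟩, h3⟩, h4⟩, h5⟩, h6⟩, h7⟩ := h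
  exact ⟨h1, h2, h3, h4, h5, h6, h7⟩

/-- matrices of order 3 -/
theorem mat_unique [CharP K 3] (hi : i ^ 2 = -1) {L L' A B : Matrix (Fin 2) (Fin 2) K} (hL : L * (L * L) = 1)
    (hL' : L' * (L' * L') = 1) (h1 : L * Ee i = A * L) (h1' : L' * Ee i = A * L') (h3 : L * Jj K = B * L)
    (h3' : L' * Jj K = B * L') : L = L' := by
  have key : ∀ {X C : Matrix (Fin 2) (Fin 2) K}, L * X = C * L → L' * X = C * L' →
      (L * L * L') * X = X * (L * L * L') := by
    intro X C a1 a2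
    have a3 : L * L * C = X * (L * L) := by
      calc L * L * C = L * L * C * (L * (L * L)) := by rw [hL, mul_one]
        _ = L * L * (C * L) * (L * L) := by simp only [mul_assoc]
        _ = L * L * (L * X) * (L * L) := by rw [a1]
        _ = (L * (L * L)) * X * (L * L) := by simp only [mul_assoc]
        _ = X * (L * L) := by rw [hL, one_mul]
    calc (L * L * L') * X = L * L * (L' * X) := by simp only [mul_assoc]
      _ = L * L * C * L' := by rw [a2]; simp only [mul_assoc]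
      _ = X * (L * L * L') := by rw [a3]; simp only [mul_assoc]
  obtain ⟨c, hc⟩ := scalar_of_comm (two_ne K) hi (key h1 h1') (key h3 h3')
  have h5 : L' = c • L := by
    have : L * (L * L * L') = L' := by
      rw [show L * (L * L * L') = (L * (L * L)) * L' by simp only [mul_assoc], hL, one_mul]
    rw [← this, hc, Matrix.mul_smul, mul_one]
  have h6 : c ^ 3 = 1 := by
    rw [h5] at hL'
    simp only [Matrix.smul_mul, Matrix.mul_smul, smul_smul] at hL'
    rw [hL] at hL'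
    have h7 := congrFun (congrFun hL' 0) 0
    simp only [Matrix.smul_apply, Matrix.one_apply_eq, smul_eq_mul, mul_one] at h7
    rw [← h7]; ring
  have h8 : c = 1 := by
    have h9 : (c - 1) ^ 3 = 0 := by
      have h3 : (3 : K) = 0 := by exact_mod_cast CharP.cast_eq_zero K 3
      have : (c - 1) ^ 3 = (c ^ 3 - 1) - 3 * (c ^ 2 - c) := by ring
      rw [this, h3, h6]; ring
    exact sub_eq_zero.1 (pow_eq_zero_iff (by norm_num) |>.1 h9)
  rw [h5, h8, one_smul]

/-- the same action on the blocks -/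
def Nm (ρ : Representation K Y M) (τ : Representation K Y M') (u : M) (u' : M') (s : Y) : Prop :=
  ∃ L, R ρ u s L ∧ R τ u' s L

theorem nm_mul {u : M} {u' : M'} {s t : Y} (h : Nm ρ τ u u' s) (h' : Nm ρ τ u u' t) : Nm ρ τ u u' (s * t) := by
  obtain ⟨L, h1, h2⟩ := h
  obtain ⟨L', h1', h2'⟩ := h'
  exact ⟨L * L', R_mul h1 h1', R_mul h2 h2'⟩

theorem nm_V_of {u : M} {u' : M'} {p : ℕ → Bool} (hp : ∀ k, p k = true → Nm ρ τ u u' (lt k)) :
    ∀ {s : List ℕ}, s.all p = true → Nm ρ τ u u' (V s)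
  | [], _ => by rw [V_nil]; exact ⟨1, R_one, R_one⟩
  | k :: s, hs => by
    rw [List.all_cons, Bool.and_eq_true] at hs
    rw [V_cons]
    exact nm_mul (hp k hs.1) (nm_V_of hp hs.2)

theorem t_mat [CharP K 3] (hi : i ^ 2 = -1) {u : M} (hF : Fr ρ i u) (hd : finrank K M = 12) {k : ℕ}
    (hk : k ∈ [16, 17, 18]) : ∃ L, R ρ u (lt k) L ∧ L * (L * L) = 1 ∧ L * Ee i = Lw i (te k) * L ∧
      L * Jj K = Lw i (tj k) * L := by
  have h2 := two_ne K
  obtain ⟨a1, a2, a3, a4, a5, a6, a7⟩ := t_spec hk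
  have hl := prV_linInd h2 hi hF.z hF.ne hF.e
  obtain ⟨L, hL⟩ := R_exists h2 hi hF hd a6 a7
  refine ⟨L, hL, ?_, ?_, ?_⟩
  · refine R_uniq hl (R_V_cons hL (R_V_cons hL (R_V_one hL))) ?_
    rw [V_eq a3, V_nil]; exact R_one
  · refine R_uniq hl (R_V_cons hL (R_V_one (R_e hF))) ?_
    rw [V_eq a1]
    exact R_V_append (R_lw h2 hi hF hd a4) (R_V_one hL)
  · refine R_uniq hl (R_V_cons hL (R_V_one (R_j hF))) ?_
    rw [V_eq a2]
    exact R_V_append (R_lw h2 hi hF hd a5) (R_V_one hL)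

theorem nm_t [CharP K 3] (hi : i ^ 2 = -1) {u : M} (hF : Fr ρ i u) (hd : finrank K M = 12) {u' : M'}
    (hF' : Fr τ i u') (hd' : finrank K M' = 12) {k : ℕ} (hk : k ∈ [16, 17, 18]) : Nm ρ τ u u' (lt k) := by
  obtain ⟨L, b1, b2, b3, b4⟩ := t_mat hi hF hd hk
  obtain ⟨L', c1, c2, c3, c4⟩ := t_mat hi hF' hd' hk
  have := mat_unique hi b2 c2 b3 c3 b4 c4
  subst this
  exact ⟨L, b1, c1⟩

/-- letters `Q` and order 3 -/
def stT (k : ℕ) : Bool := stQ k || (Nat.ble 16 k && Nat.ble k 18)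

theorem nm_stT [CharP K 3] (hi : i ^ 2 = -1) {u : M} (hF : Fr ρ i u) (hd : finrank K M = 12) {u' : M'}
    (hF' : Fr τ i u') (hd' : finrank K M' = 12) {k : ℕ} (hk : stT k = true) : Nm ρ τ u u' (lt k) := by
  unfold stT at hk
  rw [Bool.or_eq_true, Bool.and_eq_true] at hk
  rcases hk with hk | ⟨hk, hk'⟩
  · exact ⟨_, R_lc (two_ne K) hi hF hd hk, R_lc (two_ne K) hi hF' hd' hk⟩
  · have h1 := Nat.le_of_ble_eq_true hk
    have h2 := Nat.le_of_ble_eq_true hk'
    apply nm_t hi hF hd hF' hd'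
    interval_cases k <;> decide

theorem nm_eight [CharP K 3] (hi : i ^ 2 = -1) {u : M} (hF : Fr ρ i u) (hd : finrank K M = 12) {u' : M'}
    (hF' : Fr τ i u') (hd' : finrank K M' = 12) : Nm ρ τ u u' (lt 8) := by
  rw [← V_one, V_eq y_chk]
  exact nm_V_of (p := stT) (fun k hk => nm_stT hi hF hd hF' hd' hk) (by decide)

theorem st_cases {k : ℕ} (h : st k = true) : stT k = true ∨ k = 8 ∨ k = 9 := by
  unfold st at h
  simp only [Bool.or_eq_true, Bool.and_eq_true] at h
  rcases h with (((h | h) | h) | h) | ⟨h, h'⟩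
  · have := Nat.eq_of_beq_eq_true h; subst this; left; decide
  · have := Nat.eq_of_beq_eq_true h; subst this; left; decide
  · have := Nat.eq_of_beq_eq_true h; subst this; left; decide
  · have := Nat.eq_of_beq_eq_true h; subst this; left; decide
  · have h1 := Nat.le_of_ble_eq_true h
    have h2 := Nat.le_of_ble_eq_true h'
    interval_cases k <;> first | (left; decide) | (right; left; rfl) | (right; right; rfl)

/-- **Words of the stabiliser of the block.** -/
theorem nm_V [CharP K 3] (hi : i ^ 2 = -1) {u : M} (hF : Fr ρ i u) (hd : finrank K M = 12) {u' : M'}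
    (hF' : Fr τ i u') (hd' : finrank K M' = 12) {s : List ℕ} (hs : s.all st = true) : Nm ρ τ u u' (V s) := by
  refine nm_V_of (p := st) (fun k hk => ?_) hs
  rcases st_cases hk with h | rfl | rfl
  · exact nm_stT hi hF hd hF' hd' h
  · exact nm_eight hi hF hd hF' hd'
  · rw [← V_one, V_eq y_chk']
    exact nm_V_of (p := fun k => Nat.beq k 8) (fun k hk => by
      have := Nat.eq_of_beq_eq_true hk; subst this; exact nm_eight hi hF hd hF' hd') (by decide)

end

end Cfsg.Agent.H878.Sz.N
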