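import Cfsg.Agent.H878.Sz.NLet

/-!
# Representations of `6.Suz` of degree at most 12 in characteristic 3: uniqueness of the traces (helper878)
-/

set_option autoImplicit false
set_option maxRecDepth 100000
set_option linter.unusedSimpArgs false

namespace Cfsg.Agent.H878.Sz.N

open Cfsg Cfsg.Spor Cfsg.Agent.H58.SuzRep Module Cfsg.Agent.H878.Sz

section

variable {K : Type*} [Field K] {M : Type*} [AddCommGroup M] [Module K M] {ρ : Representation K Y M} {ζ i : K}
  {M' : Type*} [AddCommGroup M'] [Module K M'] {τ : Representation K Y M'}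

theorem chkM_spec {k : ℕ} (h : chkM k = true) {x : ℕ} (hx : x < 6) :
    V (k :: rep x) = V (rep ((tab k).getD x (0, [])).1 ++ ((tab k).getD x (0, [])).2) ∧
    ((tab k).getD x (0, [])).2.all st = true ∧ ((tab k).getD x (0, [])).1 < 6 := by
  have h1 := List.all_eq_true.1 h x (List.mem_range.2 hx)
  rw [Bool.and_eq_true, Bool.and_eq_true] at h1
  exact ⟨V_eq h1.1.1, h1.1.2, Nat.le_of_ble_eq_true h1.2⟩

variable [CharP K 3] (hi : i ^ 2 = -1) {u : M} (hF : Fr ρ i u) (hd : finrank K M = 12) {u' : M'}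
    (hF' : Fr τ i u') (hd' : finrank K M' = 12)

/-- the comparison -/
noncomputable def cmp : M ≃ₗ[K] M' :=
  (bas (two_ne K) hi hF hd).equiv (bas (two_ne K) hi hF' hd') (Equiv.refl _)

theorem cmp_vec (x : Fin 6) (a : Fin 2) : cmp hi hF hd hF' hd' (vec ρ u x a) = vec τ u' x a := by
  rw [← bas_apply (two_ne K) hi hF hd, cmp, Basis.equiv_apply, Equiv.refl_apply, bas_apply]

theorem mem_S_tab {k : ℕ} (h : chkM k = true) : lt k ∈ S ρ τ (cmp hi hF hd hF' hd') := by
  apply mem_S_of_basis (bas (two_ne K) hi hF hd)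
  rintro ⟨x, a⟩
  obtain ⟨h1, h2, h3⟩ := chkM_spec h x.2
  obtain ⟨L, hL, hL'⟩ := nm_V hi hF hd hF' hd' h2
  rw [bas_apply, cmp_vec]
  set y : Fin 6 := ⟨((tab k).getD x (0, [])).1, h3⟩ with hy
  have e1 : ρ (lt k) (vec ρ u x a) = L 0 a • vec ρ u y 0 + L 1 a • vec ρ u y 1 := by
    have : ρ (lt k) (vec ρ u x a) = ρ (V (k :: rep x)) (prV ρ u a) := (apply_V_cons k (rep x) (prV ρ u a)).symm
    rw [this, h1, apply_V_append, hL a, map_add, map_smul, map_smul]
    rfl
  have e2 : τ (lt k) (vec τ u' x a) = L 0 a • vec τ u' y 0 + L 1 a • vec τ u' y 1 := by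
    have : τ (lt k) (vec τ u' x a) = τ (V (k :: rep x)) (prV τ u' a) := (apply_V_cons k (rep x) (prV τ u' a)).symm
    rw [this, h1, apply_V_append, hL' a, map_add, map_smul, map_smul]
    rfl
  rw [e1, e2, map_add, map_smul, map_smul, cmp_vec, cmp_vec]

theorem V_mem {H : Subgroup Y} {p : ℕ → Bool} (hp : ∀ k, p k = true → lt k ∈ H) :
    ∀ {w : List ℕ}, w.all p = true → V w ∈ H
  | [], _ => by rw [V_nil]; exact one_mem _
  | k :: w, h => by
    rw [List.all_cons, Bool.and_eq_true] at h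
    rw [V_cons]
    exact mul_mem (hp k h.1) (V_mem hp h.2)

/-- the generating letters -/
def stG (k : ℕ) : Bool := Nat.beq k 0 || Nat.beq k 2 || Nat.beq k 4 || Nat.beq k 5 || Nat.beq k 6 || Nat.beq k 7 ||
  Nat.beq k 8 || Nat.beq k 16 || Nat.beq k 17

theorem stG_mem {k : ℕ} (hk : stG k = true) : lt k ∈ S ρ τ (cmp hi hF hd hF' hd') := by
  unfold stG at hk
  simp only [Bool.or_eq_true] at hk
  rcases hk with (((((((hk | hk) | hk) | hk) | hk) | hk) | hk) | hk) | hk <;>
    (have := Nat.eq_of_beq_eq_true hk; subst this)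
  · exact mem_S_tab hi hF hd hF' hd' chk0
  · exact mem_S_tab hi hF hd hF' hd' chk2
  · exact mem_S_tab hi hF hd hF' hd' chk4
  · exact mem_S_tab hi hF hd hF' hd' chk5
  · exact mem_S_tab hi hF hd hF' hd' chk6
  · intro w
    rw [hF.z, hF'.z, map_neg]
  · exact mem_S_tab hi hF hd hF' hd' chk8
  · exact mem_S_tab hi hF hd hF' hd' chk16
  · exact mem_S_tab hi hF hd hF' hd' chk17

/-- the generating letters and 9 -/
def stG' (k : ℕ) : Bool := stG k || Nat.beq k 9

theorem stG'_mem {k : ℕ} (hk : stG' k = true) : lt k ∈ S ρ τ (cmp hi hF hd hF' hd') := by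
  unfold stG' at hk
  rw [Bool.or_eq_true] at hk
  rcases hk with hk | hk
  · exact stG_mem hi hF hd hF' hd' hk
  · have := Nat.eq_of_beq_eq_true hk; subst this
    rw [← V_one, V_eq y_chk']
    exact V_mem (p := stG) (fun k hk => stG_mem hi hF hd hF' hd' hk) (by decide)

theorem lg_st : ([10, 11, 12, 13, 14, 15, 18].all fun k => (lg k).all stG') = true := by decide

theorem stM_mem {k : ℕ} (hk : stM k = true) : lt k ∈ S ρ τ (cmp hi hF hd hF' hd') := by
  have key : ∀ k ∈ [10, 11, 12, 13, 14, 15, 18], lt k ∈ S ρ τ (cmp hi hF hd hF' hd') := by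
    intro k hk
    have hk' : k ∈ [9, 10, 11, 12, 13, 14, 15, 18] := List.mem_cons_of_mem _ hk
    rw [← V_one, V_eq (List.all_eq_true.1 lg_chk k hk')]
    exact V_mem (p := stG') (fun k hk => stG'_mem hi hF hd hF' hd' hk) (List.all_eq_true.1 lg_st k hk)
  unfold stM at hk
  simp only [Bool.or_eq_true, Bool.and_eq_true] at hk
  rcases hk with (hk | hk) | ⟨hk, hk'⟩
  · have := Nat.eq_of_beq_eq_true hk; subst this; exact stG_mem hi hF hd hF' hd' (by decide)
  · have := Nat.eq_of_beq_eq_true hk; subst this; exact stG_mem hi hF hd hF' hd' (by decide)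
  · have h1 := Nat.le_of_ble_eq_true hk
    have h2 := Nat.le_of_ble_eq_true hk'
    interval_cases k <;> first
      | exact stG_mem hi hF hd hF' hd' (by decide)
      | exact stG'_mem hi hF hd hF' hd' (by decide)
      | exact key _ (by decide)

theorem dD_spec {m : List ℕ × List ℕ} (hm : m ∈ dD) : lt 3 * V m.1 * (lt 3)⁻¹ = V m.2 ∧ m.1.all stM = true ∧
    m.2.all stM = true := by
  have h := List.all_eq_true.1 d_chk m hm
  rw [Bool.and_eq_true, Bool.and_eq_true] at h
  refine ⟨?_, h.1.2, h.2⟩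
  have h1 := V_eq h.1.1
  rw [V_cons, V_append, V_one] at h1
  rw [h1, mul_inv_cancel_right]

theorem dR_spec {x : ℕ} (hx : x < 6) : V (rep x) = V ((dD.getD (dR.getD x (0, [])).1 ([], [])).1 ++
    (dR.getD x (0, [])).2) ∧ (dR.getD x (0, [])).2.all st = true ∧
    dD.getD (dR.getD x (0, [])).1 ([], []) ∈ dD := by
  have h := List.all_eq_true.1 dR_chk x (List.mem_range.2 hx)
  rw [Bool.and_eq_true, Bool.and_eq_true] at h
  refine ⟨V_eq h.1.1, h.1.2, ?_⟩
  have h1 : (dR.getD x (0, [])).1 < dD.length := lt_of_lt_of_eq (Nat.le_of_ble_eq_true h.2) (by decide)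
  rw [List.getD_eq_getElem?_getD, List.getElem?_eq_getElem h1, Option.getD_some]
  exact List.getElem_mem h1

include hi hF hd in
/-- the commutant -/
theorem irr (X : M →ₗ[K] M) (hX : ∀ m ∈ dD, ∀ v, X (ρ (V m.1) v) = ρ (V m.1) (X v)) :
    ∃ c : K, ∀ v, X v = c • v := by
  have h2 := two_ne K
  have hi0 : i ≠ 0 := by rintro rfl; norm_num at hi
  -- `X u` has the weight 2
  have h1 : ∀ k ∈ ks, ∀ v, X (ρ (lt k) v) = ρ (lt k) (X v) := by
    intro k hk v
    simp only [ks, List.mem_cons, List.not_mem_nil, or_false] at hk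
    rcases hk with rfl | rfl | rfl | rfl | rfl
    · have := hX ([0], [0]) (by decide) v
      rwa [V_one] at this
    · have := hX ([2], [8, 6, 9, 18, 16, 16, 5, 10, 7]) (by decide) v
      rwa [V_one] at this
    · have := hX ([5], [5]) (by decide) v
      rwa [V_one] at this
    · have := hX ([10], [18, 17, 17, 18, 17, 16, 16, 5, 7]) (by decide) v
      rwa [V_one] at this
    · rw [hF.z, hF.z, map_neg]
  have hw : IsW ρ (X (prV ρ u 0)) 2 := by
    intro k hk
    rw [← h1 k hk, wt_prV hF 0 k hk, map_smul]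
  obtain ⟨c, c', hc⟩ := of_wt h2 hi hF hd hw
  have hl := prV_linInd h2 hi hF.z hF.ne hF.e
  have q1 : R ρ u (V [4, 14]) (Ee i * 1) :=
    R_V_cons (R_e hF) (R_V_one (R_k h2 hi hF hd (by decide)))
  have q2 : R ρ u (V [11, 13, 14]) (Jj K * (1 * 1)) :=
    R_V_cons (R_j hF) (R_V_cons (R_k h2 hi hF hd (by decide)) (R_V_one (R_k h2 hi hF hd (by decide))))
  rw [mul_one] at q1
  rw [mul_one, mul_one] at q2
  have a1 := hX ([4, 14], [8, 6, 9, 18, 16, 16, 4, 11, 12, 15, 10, 7, 7, 7, 7]) (by decide) (prV ρ u 0)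
  have e0 : ρ (V [4, 14]) (prV ρ u 0) = i • prV ρ u 0 := by
    rw [q1 0]; simp [Ee]
  have e1 : ρ (V [4, 14]) (prV ρ u 1) = (-i) • prV ρ u 1 := by
    rw [q1 1]; simp [Ee]
  simp only at a1
  rw [e0, map_smul, hc, map_add, map_smul, map_smul, e0, e1] at a1
  have hc' : c' = 0 := by
    have h3 : (0 : K) • prV ρ u 0 + (2 * i * c') • prV ρ u 1 = 0 := by
      have : (0 : K) • prV ρ u 0 + (2 * i * c') • prV ρ u 1 = i • (c • prV ρ u 0 + c' • prV ρ u 1) -
          (c • i • prV ρ u 0 + c' • (-i) • prV ρ u 1) := by module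
      rw [this, a1, sub_self]
    have h4 := (LinearIndependent.pair_iff.1 (show LinearIndependent K ![prV ρ u 0, prV ρ u 1] from hl) _ _ h3).2
    rcases mul_eq_zero.1 h4 with h | h
    · rcases mul_eq_zero.1 h with h | h
      · exact absurd h h2
      · exact absurd h hi0
    · exact h
  have b0 : X (prV ρ u 0) = c • prV ρ u 0 := by rw [hc, hc', zero_smul, add_zero]
  have b1 : X (prV ρ u 1) = c • prV ρ u 1 := by
    have a2 := hX ([11, 13, 14], [18, 17, 17, 18, 17, 16, 16, 11, 12, 13, 14, 0, 10, 7]) (by decide) (prV ρ u 0)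
    have e2 : ρ (V [11, 13, 14]) (prV ρ u 0) = prV ρ u 1 := by
      rw [q2 0]; simp [Jj]
    simp only at a2
    rw [e2, b0, map_smul, e2] at a2
    exact a2
  have b : ∀ a, X (prV ρ u a) = c • prV ρ u a := by
    intro a; fin_cases a
    · exact b0
    · exact b1
  refine ⟨c, ?_⟩
  have : X = c • LinearMap.id := by
    apply (bas h2 hi hF hd).ext
    rintro ⟨x, a⟩
    rw [bas_apply, LinearMap.smul_apply, LinearMap.id_apply, vec]
    obtain ⟨h3, h4, h5⟩ := dR_spec x.2
    obtain ⟨L, hL, -⟩ := nm_V hi hF hd hF hd h4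
    have e3 : X (ρ (V (dR.getD x (0, [])).2) (prV ρ u a)) = c • ρ (V (dR.getD x (0, [])).2) (prV ρ u a) := by
      rw [hL a, map_add, map_smul, map_smul, b, b, smul_add, smul_comm, smul_comm (L 1 a)]
    rw [h3, apply_V_append, hX _ h5, e3, map_smul]
  intro v
  rw [this]; rfl

include hi hF hd hF' hd' in
/-- **Uniqueness of the traces.** -/
theorem trace_unique (g : Y) : LinearMap.trace K M (ρ g) = LinearMap.trace K M' (τ g) := by
  set h := cmp hi hF hd hF' hd' with hh
  have hS : ∀ k, stM k = true → lt k ∈ Sc ρ τ h := fun k hk => S_le_Sc (stM_mem hi hF hd hF' hd' hk)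
  have h3 : lt 3 ∈ Sc ρ τ h := by
    refine glue (D := {g | ∃ m ∈ dD, g = V m.1}) ?_ ?_
    · intro X hX
      exact irr hi hF hd X (fun m hm v => hX _ ⟨m, hm, rfl⟩ v)
    · rintro _ ⟨m, hm, rfl⟩
      obtain ⟨a1, a2, a3⟩ := dD_spec hm
      refine ⟨V_mem (p := stM) (fun k hk => stM_mem hi hF hd hF' hd' hk) a2, ?_⟩
      rw [a1]
      exact V_mem (p := stM) (fun k hk => stM_mem hi hF hd hF' hd' hk) a3
  have h1 : lt 1 ∈ Sc ρ τ h := by
    rw [← V_one, V_eq b_chk]
    refine V_mem (p := fun k => stM k || Nat.beq k 3) (fun k hk => ?_) (by decide)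
    rw [Bool.or_eq_true] at hk
    rcases hk with hk | hk
    · exact hS k hk
    · have := Nat.eq_of_beq_eq_true hk; subst this; exact h3
  have htop : Sc ρ τ h = ⊤ := by
    refine eq_top_of_gens ?_ (hS 7 (by decide))
    intro x
    cases x
    · exact hS 0 (by decide)
    · exact h1
    · exact hS 2 (by decide)
    · exact h3
    · exact hS 4 (by decide)
    · exact hS 5 (by decide)
    · exact hS 6 (by decide)
  exact trace_eq perfect_Y htop g

end

end Cfsg.Agent.H878.Sz.N
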