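import Cfsg.Agent.H878.Sz.NFrame

/-!
# Representations of `6.Suz` of degree at most 12 in characteristic 3: uniqueness (helper878)

`trace_unique` : two such representations have the same traces.
-/

set_option autoImplicit false
set_option maxRecDepth 100000
set_option linter.unusedSimpArgs false

namespace Cfsg.Agent.H878.Sz.N

open Cfsg Cfsg.Spor Cfsg.Agent.H58.SuzRep Module Cfsg.Agent.H878.Sz

/-! ### data -/

/-- the weight of a block -/
def wR (x : ℕ) : ℕ := actW (rep x) 2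

theorem rep_all : ∀ x < 6, (rep x).all st68 = true := by decide +kernel

theorem wR_lt : ∀ x < 6, wR x < 64 := by decide +kernel

theorem wR_chk : ((List.range 6).all fun x => (List.range 6).all fun x' =>
    Nat.beq x x' || ks.any fun k => !(Nat.beq (E k (wR x) % 2) (E k (wR x') % 2))) = true := by decide +kernel

/-- `e` and `κ` -/
def ce : ℕ → List ℕ
  | 12 => [5, 7, 7, 7]
  | 13 => [2, 10, 7, 7, 7]
  | 14 => [0, 2, 5]
  | _ => [2, 7, 7, 7]

/-- `j` and `κ` -/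
def cj : ℕ → List ℕ
  | 12 => [5, 10, 7, 7, 7]
  | 13 => [0, 5, 7, 7, 7]
  | 14 => [2, 5, 10]
  | _ => [0]

/-- `κ` as a commutator with `y` -/
def kw : ℕ → List ℕ
  | 12 => [12, 13, 14, 15]
  | 13 => [12]
  | 14 => [14, 15]
  | _ => [12, 13, 14]

/-- the correction -/
def kb : ℕ → List ℕ
  | 12 => [2, 5, 10]
  | 13 => [2, 7, 7, 7]
  | 14 => [2, 5]
  | _ => [0, 2, 10, 7, 7, 7]

/-- the letters `κ` -/
def stK (k : ℕ) : Bool := Nat.beq k 12 || Nat.beq k 13 || Nat.beq k 14 || Nat.beq k 15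

theorem k_chk : ([12, 13, 14, 15].all fun k => eqV [k, 4] ([4, k] ++ ce k) && eqV [k, 11] ([11, k] ++ cj k) &&
    eqV ([8] ++ kw k) ([k] ++ kw k ++ [8] ++ kb k) && (ce k).all stB && (cj k).all stB && (kb k).all stB &&
    (kw k).all stK && Nat.beq (sumE (ce k) 2 % 2) 0 && Nat.beq (sumE (cj k) 2 % 2) 0 &&
    Nat.beq (sumE (kb k) 2 % 2) 0 && chkS k && pE k 2 2) = true := by decide +kernel

/-- letters of `Q` -/
def stQ (k : ℕ) : Bool := stB k || Nat.beq k 4 || Nat.beq k 11 || stK k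

/-- `t e t⁻¹` -/
def te : ℕ → List ℕ
  | 16 => [11]
  | 17 => [4, 11, 14, 15, 0]
  | _ => [4, 11, 12, 15, 0]

/-- `t j t⁻¹` -/
def tj : ℕ → List ℕ
  | 16 => [4, 11]
  | 17 => [4, 13, 2, 10, 7, 7, 7]
  | _ => [4, 12, 13, 14, 15, 2, 5]

theorem t_chk : ([16, 17, 18].all fun k => eqV [k, 4] (te k ++ [k]) && eqV [k, 11] (tj k ++ [k]) &&
    eqV [k, k, k] [] && (te k).all stQ && (tj k).all stQ && chkS k && pE k 2 2) = true := by decide +kernel

theorem y_chk : eqV [8] [17, 18, 17, 18, 16, 7, 7] = true := by decide +kernel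
theorem y_chk' : eqV [9] [8, 8, 8, 8] = true := by decide +kernel
theorem pE8 : pE 8 2 2 = true := by decide +kernel

/-- the letters in terms of the generators of `6.2^(4+6):3A₆` -/
def lg : ℕ → List ℕ
  | 9 => [8, 8, 8, 8]
  | 10 => [8, 0, 9]
  | 11 => [16, 4, 16, 16]
  | 12 => [8, 4, 9, 7, 7, 7, 4]
  | 13 => [8, 8, 4, 9, 9, 7, 7, 7, 4]
  | 14 => [8, 8, 8, 4, 9, 9, 9, 7, 7, 7, 4]
  | 15 => [8, 8, 8, 8, 4, 9, 9, 9, 9, 7, 7, 7, 4]
  | 18 => [8, 17, 9]
  | k => [k]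

theorem lg_chk : ([9, 10, 11, 12, 13, 14, 15, 18].all fun k => eqV [k] (lg k)) = true := by decide +kernel

/-- the letters of `M₁` -/
def stM (k : ℕ) : Bool := Nat.beq k 0 || Nat.beq k 2 || (Nat.ble 4 k && Nat.ble k 18)

/-- elements of `M₁ ∩ M₁^d` and their conjugates -/
def dD : List (List ℕ × List ℕ) := [([0], [0]), ([2], [8, 6, 9, 18, 16, 16, 5, 10, 7]), ([5], [5]),
  ([10], [18, 17, 17, 18, 17, 16, 16, 5, 7]),
  ([4, 14], [8, 6, 9, 18, 16, 16, 4, 11, 12, 15, 10, 7, 7, 7, 7]),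
  ([11, 13, 14], [18, 17, 17, 18, 17, 16, 16, 11, 12, 13, 14, 0, 10, 7]),
  ([6], [6]), ([], []),
  ([8, 6, 9, 18], [18, 17, 17, 18, 17, 16, 0, 2, 5, 7, 7, 7]),
  ([8, 8, 6, 9, 17], [8, 8, 6, 9, 17, 16, 16, 0, 7, 7, 7]),
  ([8, 8, 8, 8, 6, 17], [8, 8, 8, 6, 18, 9, 18, 17, 16, 16, 0, 5, 10, 7]),
  ([8, 8, 8, 6, 8, 18], [8, 8, 8, 8, 6, 18, 17, 8, 8, 18, 17, 0, 5, 7, 7, 7])]

theorem d_chk : (dD.all fun m => eqV (3 :: m.1) (m.2 ++ [3]) && m.1.all stM && m.2.all stM) = true := by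
  decide +kernel

/-- the transversal in `M₁ ∩ M₁^d` -/
def dR : List (ℕ × List ℕ) := [(6, []), (7, []), (8, [8, 17, 17]), (9, [18, 17, 18, 16, 7, 7]), (10, [17, 17]),
  (11, [8, 18, 16, 16, 7, 7, 7, 7])]

theorem dR_chk : ((List.range 6).all fun x => eqV (rep x)
    ((dD.getD (dR.getD x (0, [])).1 ([], [])).1 ++ (dR.getD x (0, [])).2) && (dR.getD x (0, [])).2.all st &&
    Nat.blt (dR.getD x (0, [])).1 12) = true := by decide +kernel

theorem b_chk : eqV [1] [8, 8, 3, 9, 3, 8, 6, 8, 18, 17, 17, 18, 16, 16, 7, 7, 7, 7] = true := by decide +kernel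

/-! ### the theory -/

section

variable {K : Type*} [Field K] {M : Type*} [AddCommGroup M] [Module K M] {ρ : Representation K Y M} {ζ i : K}
  {M' : Type*} [AddCommGroup M'] [Module K M'] {τ : Representation K Y M'}

theorem two_ne (K : Type*) [Field K] [CharP K 3] : (2 : K) ≠ 0 := by
  intro h
  have h3 : (3 : K) = 0 := by exact_mod_cast CharP.cast_eq_zero K 3
  have : (1 : K) = 3 - 2 := by norm_num
  rw [h, h3, sub_zero] at this
  exact one_ne_zero this

theorem chi6 (h2 : (2 : K) ≠ 0) :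
    Function.Injective fun (x : Fin 6) (j : Fin 5) => (-1 : K) ^ E (ks.getD j 0) (wR x) := by
  intro x x' h
  have h1 := List.all_eq_true.1 (List.all_eq_true.1 wR_chk x (List.mem_range.2 x.2)) x' (List.mem_range.2 x'.2)
  rw [Bool.or_eq_true] at h1
  rcases h1 with h1 | h1
  · exact Fin.ext (Nat.eq_of_beq_eq_true h1)
  · exfalso
    obtain ⟨k, hk, h3⟩ := List.any_eq_true.1 h1
    obtain ⟨j, hj, rfl⟩ := List.mem_iff_getElem.1 hk
    have h4 := pow_inj h2 (congrFun h ⟨j, hj⟩)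
    have e : ks.getD j 0 = ks[j] := by rw [List.getD_eq_getElem?_getD, List.getElem?_eq_getElem hj, Option.getD_some]
    simp only [e] at h4
    rw [h4] at h3
    simp at h3

theorem wt_prV {u : M} (hF : Fr ρ i u) (a : Fin 2) : IsW ρ (prV ρ u a) 2 := by
  fin_cases a
  · exact hF.wt
  · exact isW_step chkS11 (pE_id 2 (by norm_num)).2 hF.wt

/-- the vectors of the frame -/
def vec (ρ : Representation K Y M) (u : M) (x : Fin 6) (a : Fin 2) : M := ρ (V (rep x)) (prV ρ u a)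

theorem vec_wt {u : M} (hF : Fr ρ i u) (x : Fin 6) (a : Fin 2) (j : Fin 5) :
    ρ (lt (ks.getD j 0)) (vec ρ u x a) = (-1 : K) ^ E (ks.getD j 0) (wR x) • vec ρ u x a :=
  (isW_actW (by norm_num) (wt_prV hF a) (rep_all x x.2)).1 _ (ks_mem j)

theorem vec_linInd (h2 : (2 : K) ≠ 0) (hi : i ^ 2 = -1) {u : M} (hF : Fr ρ i u) :
    LinearIndependent K fun p : Fin 6 × Fin 2 => vec ρ u p.1 p.2 := by
  refine linInd_blocks (fun j : Fin 5 => ρ (lt (ks.getD j 0)))
    (fun (x : Fin 6) (j : Fin 5) => (-1 : K) ^ E (ks.getD j 0) (wR x)) (chi6 h2) (vec ρ u) ?_ (vec_wt hF)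
  intro x
  refine (prV_linInd h2 hi hF.z hF.ne hF.e).map' (ρ (V (rep x))) ?_
  rw [LinearMap.ker_eq_bot']
  intro m hm
  by_contra h0
  exact apply_ne h0 hm

/-- the basis -/
noncomputable def bas (h2 : (2 : K) ≠ 0) (hi : i ^ 2 = -1) {u : M} (hF : Fr ρ i u) (hd : finrank K M = 12) :
    Basis (Fin 6 × Fin 2) K M :=
  basisOfLinearIndependentOfCardEqFinrank (vec_linInd h2 hi hF) (by simp [hd])

theorem bas_apply (h2 : (2 : K) ≠ 0) (hi : i ^ 2 = -1) {u : M} (hF : Fr ρ i u) (hd : finrank K M = 12)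
    (x : Fin 6) (a : Fin 2) : bas h2 hi hF hd (x, a) = vec ρ u x a := by
  unfold bas; simp

theorem vec_one (u : M) (a : Fin 2) : vec ρ u 1 a = prV ρ u a := by
  have : rep ((1 : Fin 6) : ℕ) = [] := rfl
  rw [vec, this, apply_V_nil]

theorem of_wt (h2 : (2 : K) ≠ 0) (hi : i ^ 2 = -1) {u : M} (hF : Fr ρ i u) (hd : finrank K M = 12) {w : M}
    (hw : IsW ρ w 2) : ∃ c₀ c₁ : K, w = c₀ • prV ρ u 0 + c₁ • prV ρ u 1 := by
  obtain ⟨c₀, c₁, h⟩ := of_wt_blocks (fun j : Fin 5 => ρ (lt (ks.getD j 0)))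
    (fun (x : Fin 6) (j : Fin 5) => (-1 : K) ^ E (ks.getD j 0) (wR x)) (chi6 h2) (bas h2 hi hF hd)
    (fun x a j => by rw [bas_apply]; exact vec_wt hF x a j) (x₀ := 1) (u := w) (fun j => hw _ (ks_mem j))
  rw [bas_apply, bas_apply, vec_one, vec_one] at h
  exact ⟨c₀, c₁, h⟩

/-- `s` acts on the block by the matrix `L` -/
def R (ρ : Representation K Y M) (u : M) (s : Y) (L : Matrix (Fin 2) (Fin 2) K) : Prop :=
  ∀ a, ρ s (prV ρ u a) = L 0 a • prV ρ u 0 + L 1 a • prV ρ u 1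

theorem R_one {u : M} : R ρ u 1 1 := by
  intro a
  rw [map_one, Module.End.one_apply]
  fin_cases a <;> simp [Matrix.one_apply]

theorem R_mul {u : M} {s t : Y} {L L' : Matrix (Fin 2) (Fin 2) K} (h : R ρ u s L) (h' : R ρ u t L') :
    R ρ u (s * t) (L * L') := by
  intro a
  rw [map_mul, Module.End.mul_apply, h', map_add, map_smul, map_smul, h, h, Matrix.mul_apply, Matrix.mul_apply,
    Fin.sum_univ_two, Fin.sum_univ_two]
  module

theorem R_uniq {u : M} (hl : LinearIndependent K (prV ρ u)) {s : Y} {L L' : Matrix (Fin 2) (Fin 2) K}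
    (h : R ρ u s L) (h' : R ρ u s L') : L = L' := by
  have key : ∀ a, L 0 a = L' 0 a ∧ L 1 a = L' 1 a := by
    intro a
    have h1 : (L 0 a - L' 0 a) • prV ρ u 0 + (L 1 a - L' 1 a) • prV ρ u 1 = 0 := by
      have h2 := (h a).symm.trans (h' a)
      have h3 : (L 0 a - L' 0 a) • prV ρ u 0 + (L 1 a - L' 1 a) • prV ρ u 1 =
          (L 0 a • prV ρ u 0 + L 1 a • prV ρ u 1) - (L' 0 a • prV ρ u 0 + L' 1 a • prV ρ u 1) := by module
      rw [h3, h2, sub_self]
    have h2 := LinearIndependent.pair_iff.1 (show LinearIndependent K ![prV ρ u 0, prV ρ u 1] from hl) _ _ h1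
    exact ⟨sub_eq_zero.1 h2.1, sub_eq_zero.1 h2.2⟩
  ext a b
  fin_cases a
  · exact (key b).1
  · exact (key b).2

theorem R_exists (h2 : (2 : K) ≠ 0) (hi : i ^ 2 = -1) {u : M} (hF : Fr ρ i u) (hd : finrank K M = 12) {k : ℕ}
    (hk : chkS k = true) (hk' : pE k 2 2 = true) : ∃ L, R ρ u (lt k) L := by
  have h1 : ∀ a, ∃ c₀ c₁ : K, ρ (lt k) (prV ρ u a) = c₀ • prV ρ u 0 + c₁ • prV ρ u 1 := fun a =>
    of_wt h2 hi hF hd (isW_step hk hk' (wt_prV hF a))
  choose c₀ c₁ h using h1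
  refine ⟨!![c₀ 0, c₀ 1; c₁ 0, c₁ 1], fun a => ?_⟩
  fin_cases a
  · exact h 0
  · exact h 1

theorem R_ks {u : M} (hF : Fr ρ i u) {s : List ℕ} (hs : s.all stB = true) :
    R ρ u (V s) ((-1 : K) ^ sumE s 2 • 1) := by
  intro a
  rw [apply_B (wt_prV hF a) hs]
  fin_cases a <;> simp [Matrix.one_apply]

/-- matrix of `e` -/
def Ee (i : K) : Matrix (Fin 2) (Fin 2) K := !![i, 0; 0, -i]
/-- matrix of `j` -/
def Jj (K : Type*) [Field K] : Matrix (Fin 2) (Fin 2) K := !![0, -1; 1, 0]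

theorem R_e {u : M} (hF : Fr ρ i u) : R ρ u (lt 4) (Ee i) := by
  intro a
  fin_cases a
  · show ρ (lt 4) u = i • u + (0 : K) • ρ (lt 11) u
    rw [hF.e, zero_smul, add_zero]
  · show ρ (lt 4) (ρ (lt 11) u) = (0 : K) • u + (-i) • ρ (lt 11) u
    rw [e_j' hF.z, hF.e, map_smul, zero_smul, zero_add, neg_smul]

theorem R_j {u : M} (hF : Fr ρ i u) : R ρ u (lt 11) (Jj K) := by
  intro a
  fin_cases a
  · show ρ (lt 11) u = (0 : K) • u + (1 : K) • ρ (lt 11) u
    rw [zero_smul, zero_add, one_smul]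
  · show ρ (lt 11) (ρ (lt 11) u) = (-1 : K) • u + (0 : K) • ρ (lt 11) u
    rw [j_j hF.z, zero_smul, add_zero, neg_one_smul]

theorem scalar_of_comm (h2 : (2 : K) ≠ 0) (hi : i ^ 2 = -1) {L : Matrix (Fin 2) (Fin 2) K} (he : L * Ee i = Ee i * L)
    (hj : L * Jj K = Jj K * L) : ∃ c : K, L = c • (1 : Matrix (Fin 2) (Fin 2) K) := by
  have hi0 : i ≠ 0 := by rintro rfl; norm_num at hi
  have e01 := congrFun (congrFun he 0) 1
  have e10 := congrFun (congrFun he 1) 0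
  have f10 := congrFun (congrFun hj 1) 0
  simp only [Ee, Jj, Matrix.mul_apply, Fin.sum_univ_two, Matrix.of_apply, Matrix.cons_val', Matrix.cons_val_zero,
    Matrix.cons_val_one, Matrix.cons_val_fin_one, mul_zero, zero_mul, zero_add, add_zero, mul_one, one_mul, mul_neg,
    neg_mul] at e01 e10 f10
  have h01 : L 0 1 = 0 := by
    have h3 : (2 * i) * L 0 1 = 0 := by linear_combination -e01
    rcases mul_eq_zero.1 h3 with h | h
    · rcases mul_eq_zero.1 h with h | h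
      · exact absurd h h2
      · exact absurd h hi0
    · exact h
  have h10 : L 1 0 = 0 := by
    have h3 : (2 * i) * L 1 0 = 0 := by linear_combination e10
    rcases mul_eq_zero.1 h3 with h | h
    · rcases mul_eq_zero.1 h with h | h
      · exact absurd h h2
      · exact absurd h hi0
    · exact h
  refine ⟨L 0 0, ?_⟩
  ext a b
  fin_cases a <;> fin_cases b
  · simp
  · simpa using h01
  · simpa using h10
  · simpa using f10

end

end Cfsg.Agent.H878.Sz.N
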