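import Cfsg.Agent.H878.Sz.NData
import Cfsg.Agent.H878.Sz.NGlue

/-!
# Weights of `2^5 ≤ 6.2^(4+6):3A₆ ≤ 6.Suz` (helper878)

The weights are subsets of the six blocks (bitmasks `n < 64`) up to complement.
-/

set_option autoImplicit false
set_option maxRecDepth 100000
set_option linter.unusedSimpArgs false

namespace Cfsg.Agent.H878.Sz.N

open Cfsg Cfsg.Spor Cfsg.Agent.H58.SuzRep Module Cfsg.Agent.H878.Sz

/-- a bit -/
def bit (i n : ℕ) : ℕ := n / 2 ^ i % 2

/-- exponent of the letter `k` on the weight `n` -/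
def E : ℕ → ℕ → ℕ
  | 0, n => bit 4 n + bit 5 n
  | 2, n => bit 0 n + bit 1 n
  | 5, n => bit 1 n + bit 2 n
  | 10, n => bit 0 n + bit 4 n
  | _, n => bit 0 n + bit 1 n + bit 2 n + bit 3 n + bit 4 n + bit 5 n

/-- action of the letter 8 (otherwise of the letter 6) on weights -/
def A (k n : ℕ) : ℕ := if k = 8 then
    bit 0 n * 4 + bit 1 n * 2 + bit 2 n * 8 + bit 3 n * 32 + bit 4 n * 1 + bit 5 n * 16
  else bit 0 n * 2 + bit 1 n * 1 + bit 2 n * 8 + bit 3 n * 4 + bit 4 n * 16 + bit 5 n * 32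

/-- action of words -/
def actW (w : List ℕ) (n : ℕ) : ℕ := w.foldr A n

/-- the letters of `B` -/
def ks : List ℕ := [0, 2, 5, 10, 7]

/-- in `ks` -/
def stB (k : ℕ) : Bool := Nat.beq k 0 || Nat.beq k 2 || Nat.beq k 5 || Nat.beq k 10 || Nat.beq k 7

/-- the words `m⁻¹ k m` -/
def sW : ℕ → ℕ → List ℕ
  | 8, 0 => [5, 10, 7, 7, 7]
  | 8, 2 => [2, 10]
  | 8, 5 => [2]
  | 8, 10 => [0]
  | 6, 5 => [0, 5, 7, 7, 7]
  | 6, 10 => [2, 10]
  | 17, 0 => [0, 2, 5, 10]
  | 17, 5 => [0, 2, 5, 7, 7, 7]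
  | 17, 10 => [2, 5]
  | 18, 0 => [10]
  | 18, 2 => [0, 2, 5, 7, 7, 7]
  | 18, 10 => [0, 5, 10, 7, 7, 7]
  | _, k => [k]

/-- the relations of the letter `m` -/
noncomputable def chkS (m : ℕ) : Bool := ks.all fun k => eqV [k, m] (m :: sW m k) && (sW m k).all stB

/-- sum of the exponents -/
def sumE (s : List ℕ) (n : ℕ) : ℕ := (s.map fun k => E k n).sum

/-- the letter `m` maps the weight `n` to `n'` -/
def pE (m n n' : ℕ) : Bool := ks.all fun k => Nat.beq (sumE (sW m k) n % 2) (E k n' % 2)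

theorem chkS8 : chkS 8 = true := by decide +kernel
theorem chkS6 : chkS 6 = true := by decide +kernel
theorem chkS16 : chkS 16 = true := by decide +kernel
theorem chkS17 : chkS 17 = true := by decide +kernel
theorem chkS18 : chkS 18 = true := by decide +kernel
theorem chkS12 : chkS 12 = true := by decide +kernel
theorem chkS13 : chkS 13 = true := by decide +kernel
theorem chkS14 : chkS 14 = true := by decide +kernel
theorem chkS15 : chkS 15 = true := by decide +kernel
theorem chkS4 : chkS 4 = true := by decide +kernel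
theorem chkS11 : chkS 11 = true := by decide +kernel

theorem pE_A : ∀ n < 64, pE 8 n (A 8 n) = true ∧ pE 6 n (A 6 n) = true := by decide +kernel
theorem pE_id : ∀ n < 64, pE 4 n n = true ∧ pE 11 n n = true := by decide +kernel
theorem A_lt : ∀ n < 64, A 8 n < 64 ∧ A 6 n < 64 := by decide +kernel

/-- equal weights -/
def eqE (n n' : ℕ) : Bool := ks.all fun k => Nat.beq (E k n % 2) (E k n' % 2)

/-- words to the base points -/
def tb : List (List ℕ) := [[], [6], [], [], [6, 8, 8, 8, 8], [8, 8, 8, 6], [8, 8, 8, 8], [], [6, 8, 8, 8],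
  [8, 8, 8, 8, 6], [8, 8, 8], [6], [8, 6, 8, 8, 8], [8, 8], [8, 8, 6], [8, 6, 8], [6, 8], [8, 6], [8], [8],
  [8, 8, 6, 8, 6], [8, 8, 8], [6, 8], [8, 6, 8, 8], [8, 8, 6, 8], [6, 8, 6], [6, 8, 8, 8], [8, 8, 6, 8, 8],
  [6, 8, 8], [8, 8], [8, 8, 6], [6, 8, 8], [6, 8, 8], [8, 8, 6], [8, 8], [6, 8, 8], [8, 8, 6, 8, 8], [6, 8, 8, 8],
  [6, 8, 6], [8, 8, 6, 8], [8, 6, 8, 8], [6, 8], [8, 8, 8], [8, 8, 6, 8, 6], [8], [8], [8, 6], [6, 8], [8, 6, 8],
  [8, 8, 6], [8, 8], [8, 6, 8, 8, 8], [6], [8, 8, 8], [8, 8, 8, 8, 6], [6, 8, 8, 8], [], [8, 8, 8, 8], [8, 8, 8, 6],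
  [6, 8, 8, 8, 8], [], [], [6], []]

/-- words in the letters 6, 8 -/
def st68 (k : ℕ) : Bool := Nat.beq k 8 || Nat.beq k 6

theorem tb_chk : ∀ n < 64, E 0 n % 2 = 1 → (tb.getD n []).all st68 = true ∧
    (eqE (actW (tb.getD n []) n) 3 = true ∨ eqE (actW (tb.getD n []) n) 7 = true ∨
      eqE (actW (tb.getD n []) n) 2 = true) := by decide +kernel

/-- words for the weights of type 2 -/
def w15 : List (List ℕ) := [[], [8], [8, 8], [6, 8], [8, 8, 8], [6, 8, 8], [8, 6, 8], [8, 8, 8, 8], [6, 8, 8, 8],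
  [8, 6, 8, 8], [8, 8, 6, 8], [6, 8, 6, 8], [6, 8, 8, 8, 8], [8, 6, 8, 8, 8], [8, 6, 8, 6, 8]]
/-- words for the weights of type 3 -/
def w10 : List (List ℕ) := [[], [8], [6], [8, 8], [6, 8], [8, 6], [6, 8, 8], [8, 6, 8], [6, 8, 6], [8, 6, 8, 8]]

/-- the list of weights -/
def wts (n : ℕ) (L : List (List ℕ)) : List ℕ := L.map fun w => actW w n

/-- pairwise different weights -/
def dist (L : List ℕ) : Bool := (List.range L.length).all fun x => (List.range L.length).all fun x' =>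
  Nat.beq x x' || ks.any fun k => !(Nat.beq (E k (L.getD x 0) % 2) (E k (L.getD x' 0) % 2))

theorem dist15 : dist (wts 3 w15) = true := by decide +kernel
theorem dist10 : dist (wts 7 w10) = true := by decide +kernel
theorem dist6 : dist (wts 2 ((List.range 6).map rep)) = true := by decide +kernel
theorem w15_st : w15.all (fun w => w.all st68) = true := by decide +kernel
theorem w10_st : w10.all (fun w => w.all st68) = true := by decide +kernel
theorem rep_st : ((List.range 6).map rep).all (fun w => w.all st68) = true := by decide +kernel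

theorem exN_chk : ((List.range 32).all fun t => (List.range 64).any fun n => Nat.beq (E 0 n % 2) (t % 2) &&
    Nat.beq (E 2 n % 2) (t / 2 % 2) && Nat.beq (E 5 n % 2) (t / 4 % 2) && Nat.beq (E 10 n % 2) (t / 8 % 2) &&
    Nat.beq (E 7 n % 2) (t / 16 % 2)) = true := by decide +kernel

theorem exists_n {a b c d e : ℕ} (ha : a < 2) (hb : b < 2) (hc : c < 2) (hd : d < 2) (he : e < 2) :
    ∃ n < 64, E 0 n % 2 = a ∧ E 2 n % 2 = b ∧ E 5 n % 2 = c ∧ E 10 n % 2 = d ∧ E 7 n % 2 = e := by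
  obtain ⟨n, hn, h⟩ := List.any_eq_true.1 (List.all_eq_true.1 exN_chk (a + 2 * b + 4 * c + 8 * d + 16 * e)
    (List.mem_range.2 (by omega)))
  simp only [Bool.and_eq_true] at h
  obtain ⟨⟨⟨⟨h0, h1⟩, h2⟩, h3⟩, h4⟩ := h
  have h0 := Nat.eq_of_beq_eq_true h0
  have h1 := Nat.eq_of_beq_eq_true h1
  have h2 := Nat.eq_of_beq_eq_true h2
  have h3 := Nat.eq_of_beq_eq_true h3
  have h4 := Nat.eq_of_beq_eq_true h4
  refine ⟨n, List.mem_range.1 hn, ?_, ?_, ?_, ?_, ?_⟩ <;> omega

section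

variable {K : Type*} [Field K] {M : Type*} [AddCommGroup M] [Module K M] {ρ : Representation K Y M} {ζ : K}

theorem apply_V_nil (v : M) : ρ (V []) v = v := by rw [V_nil, map_one, Module.End.one_apply]
theorem apply_V_cons (k : ℕ) (w : List ℕ) (v : M) : ρ (V (k :: w)) v = ρ (lt k) (ρ (V w) v) := by
  rw [V_cons, map_mul, Module.End.mul_apply]
theorem apply_V_append (u w : List ℕ) (v : M) : ρ (V (u ++ w)) v = ρ (V u) (ρ (V w) v) := by
  rw [V_append, map_mul, Module.End.mul_apply]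
theorem apply_V_one (k : ℕ) (v : M) : ρ (V [k]) v = ρ (lt k) v := by rw [V_one]
theorem apply_eqV {u w : List ℕ} (h : eqV u w = true) (v : M) : ρ (V u) v = ρ (V w) v := by rw [V_eq h]

theorem apply_ne {g : Y} {v : M} (hv : v ≠ 0) : ρ g v ≠ 0 := by
  intro h
  apply hv
  have h1 : ρ g⁻¹ (ρ g v) = v := by
    rw [← Module.End.mul_apply, ← map_mul, inv_mul_cancel, map_one, Module.End.one_apply]
  rw [← h1, h, map_zero]

theorem apply_inj {g : Y} {v w : M} (h : ρ g v = ρ g w) : v = w := by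
  by_contra hne
  have h1 : ρ g (v - w) ≠ 0 := apply_ne (sub_ne_zero.2 hne)
  rw [map_sub, h, sub_self] at h1
  exact h1 rfl

/-- `v` has the weight `n` -/
def IsW (ρ : Representation K Y M) (v : M) (n : ℕ) : Prop := ∀ k ∈ ks, ρ (lt k) v = (-1 : K) ^ E k n • v

theorem neg_one_pow_mod {a b : ℕ} (h : a % 2 = b % 2) : (-1 : K) ^ a = (-1) ^ b := by
  rw [neg_one_pow_eq_pow_mod_two, h, ← neg_one_pow_eq_pow_mod_two]

theorem stB_mem {k : ℕ} (h : stB k = true) : k ∈ ks := by
  unfold stB at h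
  simp only [Bool.or_eq_true] at h
  rcases h with (((h | h) | h) | h) | h <;> (have := Nat.eq_of_beq_eq_true h; subst this; decide)

theorem apply_B {v : M} {n : ℕ} (h : IsW ρ v n) : ∀ {s : List ℕ}, s.all stB = true →
    ρ (V s) v = (-1 : K) ^ sumE s n • v
  | [], _ => by rw [apply_V_nil]; simp [sumE]
  | k :: s, hs => by
    rw [List.all_cons, Bool.and_eq_true] at hs
    rw [apply_V_cons, apply_B h hs.2, map_smul, h k (stB_mem hs.1), smul_smul, ← pow_add]
    congr 2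
    simp only [sumE, List.map_cons, List.sum_cons]
    exact add_comm _ _

theorem isW_step {v : M} {m n n' : ℕ} (hm : chkS m = true) (hp : pE m n n' = true) (h : IsW ρ v n) :
    IsW ρ (ρ (lt m) v) n' := by
  intro k hk
  have h1 := List.all_eq_true.1 hm k hk
  rw [Bool.and_eq_true] at h1
  have h2 := Nat.eq_of_beq_eq_true (List.all_eq_true.1 hp k hk)
  have h3 := apply_eqV (ρ := ρ) h1.1 v
  rw [apply_V_cons, apply_V_one, apply_V_cons, apply_B h h1.2, map_smul] at h3
  rw [h3, neg_one_pow_mod h2]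

theorem isW_congr {v : M} {n n' : ℕ} (he : eqE n n' = true) (h : IsW ρ v n) : IsW ρ v n' := by
  intro k hk
  have h2 := Nat.eq_of_beq_eq_true (List.all_eq_true.1 he k hk)
  rw [h k hk, neg_one_pow_mod h2]

theorem isW_A {v : M} {k n : ℕ} (hk : st68 k = true) (hn : n < 64) (h : IsW ρ v n) :
    IsW ρ (ρ (lt k) v) (A k n) ∧ A k n < 64 := by
  unfold st68 at hk
  rw [Bool.or_eq_true] at hk
  rcases hk with hk | hk <;> (have := Nat.eq_of_beq_eq_true hk; subst this)
  · exact ⟨isW_step chkS8 (pE_A n hn).1 h, (A_lt n hn).1⟩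
  · exact ⟨isW_step chkS6 (pE_A n hn).2 h, (A_lt n hn).2⟩

theorem isW_actW {v : M} {n : ℕ} (hn : n < 64) (h : IsW ρ v n) : ∀ {w : List ℕ}, w.all st68 = true →
    IsW ρ (ρ (V w) v) (actW w n) ∧ actW w n < 64
  | [], _ => by rw [apply_V_nil]; exact ⟨h, hn⟩
  | k :: w, hw => by
    rw [List.all_cons, Bool.and_eq_true] at hw
    obtain ⟨h1, h2⟩ := isW_actW hn h hw.2
    rw [apply_V_cons]
    exact isW_A hw.1 h2 h1

theorem pow_inj (h2 : (2 : K) ≠ 0) {a b : ℕ} (h : (-1 : K) ^ a = (-1) ^ b) : a % 2 = b % 2 := by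
  have hne : (-1 : K) ≠ 1 := by
    intro e
    apply h2
    have : (2 : K) = 1 - -1 := by norm_num
    rw [this, e, sub_self]
  rw [neg_one_pow_eq_pow_mod_two (n := a), neg_one_pow_eq_pow_mod_two (n := b)] at h
  rcases Nat.mod_two_eq_zero_or_one a with ha | ha <;> rcases Nat.mod_two_eq_zero_or_one b with hb | hb <;>
    rw [ha, hb] at h ⊢
  · rw [pow_zero, pow_one] at h; exact absurd h.symm hne
  · rw [pow_zero, pow_one] at h; exact absurd h hne

theorem chi_inj (h2 : (2 : K) ≠ 0) {L : List ℕ} (hL : dist L = true) :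
    Function.Injective fun (x : Fin L.length) (i : Fin 5) => (-1 : K) ^ E (ks.getD i 0) (L.getD x 0) := by
  intro x x' h
  have h1 := List.all_eq_true.1 (List.all_eq_true.1 hL x (List.mem_range.2 x.2)) x' (List.mem_range.2 x'.2)
  rw [Bool.or_eq_true] at h1
  rcases h1 with h1 | h1
  · exact Fin.ext (Nat.eq_of_beq_eq_true h1)
  · exfalso
    obtain ⟨k, hk, h3⟩ := List.any_eq_true.1 h1
    obtain ⟨i, hi, rfl⟩ := List.mem_iff_getElem.1 hk
    have h4 := pow_inj h2 (congrFun h ⟨i, hi⟩)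
    have e : ks.getD i 0 = ks[i] := by rw [List.getD_eq_getElem?_getD, List.getElem?_eq_getElem hi, Option.getD_some]
    simp only [e] at h4
    rw [h4] at h3
    simp at h3

theorem ks_mem (i : Fin 5) : ks.getD i 0 ∈ ks := by fin_cases i <;> decide

end

end Cfsg.Agent.H878.Sz.N
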