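import Cfsg.Agent.H878.Sz.ThreeData
import Cfsg.Agent.H878.Sz.Glue

/-!
# Representations of `6.Suz` of degree at most 12 in characteristic `≠ 3` (helper878)

`frame` : a representation of degree `≤ 12` of `Y` in characteristic `≠ 3`, `a₀` acting nontrivially and `z` as a scalar
`ζ`, has degree 12, `ζ ^ 2` is a primitive cube root of unity and there is a vector as in `Fr`.
-/

set_option autoImplicit false
set_option maxRecDepth 100000
set_option linter.unusedSimpArgs false

namespace Cfsg.Agent.H878.Sz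

open Cfsg Cfsg.Spor Cfsg.Agent.H58.SuzRep Module

/-! ### weights -/

/-- digits -/
def dig (i n : ℕ) : ℕ := n / 3 ^ i % 3

theorem dig0 (n : ℕ) : dig 0 n = n % 3 := by unfold dig; norm_num
theorem dig1 (n : ℕ) : dig 1 n = n / 3 % 3 := by unfold dig; norm_num
theorem dig2 (n : ℕ) : dig 2 n = n / 9 % 3 := by unfold dig; norm_num
theorem dig3 (n : ℕ) : dig 3 n = n / 27 % 3 := by unfold dig; norm_num
theorem dig4 (n : ℕ) : dig 4 n = n / 81 % 3 := by unfold dig; norm_num

/-- `y` on weights -/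
def yA (n : ℕ) : ℕ := (2 * (n % 3) + n / 3 % 3 + 2 * (n / 9 % 3) + n / 81 % 3) % 3 + 3 * (n % 81)

/-- `b` on weights -/
def bA (κ n : ℕ) : ℕ := n % 3 + 3 * ((2 * (n % 3) + 2 * (n / 3 % 3) + n / 27 % 3 + n / 81 % 3 + κ) % 3) +
  9 * (n / 9 % 3) + 27 * (n / 81 % 3) + 81 * (n / 27 % 3)

theorem dig_succ_yA (n : ℕ) : dig 1 (yA n) = dig 0 n ∧ dig 2 (yA n) = dig 1 n ∧ dig 3 (yA n) = dig 2 n ∧
    dig 4 (yA n) = dig 3 n := by
  rw [dig1, dig2, dig3, dig4, dig0, dig1, dig2, dig3]
  unfold yA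
  have hX : (2 * (n % 3) + n / 3 % 3 + 2 * (n / 9 % 3) + n / 81 % 3) % 3 < 3 := Nat.mod_lt _ (by norm_num)
  generalize (2 * (n % 3) + n / 3 % 3 + 2 * (n / 9 % 3) + n / 81 % 3) % 3 = X at hX ⊢
  have a1 : (X + 3 * (n % 81)) / 3 = n % 81 := by omega
  have a2 : (X + 3 * (n % 81)) / 9 = n % 81 / 3 := by rw [show (9 : ℕ) = 3 * 3 from rfl, ← Nat.div_div_eq_div_mul, a1]
  have a3 : (X + 3 * (n % 81)) / 27 = n % 81 / 9 := by rw [show (27 : ℕ) = 3 * 9 from rfl, ← Nat.div_div_eq_div_mul, a1]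
  have a4 : (X + 3 * (n % 81)) / 81 = n % 81 / 27 := by
    rw [show (X + 3 * (n % 81)) / 81 = (X + 3 * (n % 81)) / (3 * 27) from rfl, ← Nat.div_div_eq_div_mul, a1]
  rw [a1, a2, a3, a4]
  refine ⟨by omega, by omega, by omega, by omega⟩

theorem dig_mk {a b c d e : ℕ} (ha : a < 3) (hb : b < 3) (hc : c < 3) (hd : d < 3) (he : e < 3) :
    dig 0 (a + 3 * b + 9 * c + 27 * d + 81 * e) = a ∧ dig 1 (a + 3 * b + 9 * c + 27 * d + 81 * e) = b ∧
    dig 2 (a + 3 * b + 9 * c + 27 * d + 81 * e) = c ∧ dig 3 (a + 3 * b + 9 * c + 27 * d + 81 * e) = d ∧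
    dig 4 (a + 3 * b + 9 * c + 27 * d + 81 * e) = e := by
  rw [dig0, dig1, dig2, dig3, dig4]
  refine ⟨by omega, by omega, by omega, by omega, by omega⟩

theorem dig_bA (κ n : ℕ) : dig 0 (bA κ n) = dig 0 n ∧
    dig 1 (bA κ n) = (2 * dig 0 n + 2 * dig 1 n + dig 3 n + dig 4 n + κ) % 3 ∧ dig 2 (bA κ n) = dig 2 n ∧
    dig 3 (bA κ n) = dig 4 n ∧ dig 4 (bA κ n) = dig 3 n := by
  have h := dig_mk (a := n % 3) (b := (2 * (n % 3) + 2 * (n / 3 % 3) + n / 27 % 3 + n / 81 % 3 + κ) % 3)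
    (c := n / 9 % 3) (d := n / 81 % 3) (e := n / 27 % 3) (Nat.mod_lt _ (by norm_num)) (Nat.mod_lt _ (by norm_num))
    (Nat.mod_lt _ (by norm_num)) (Nat.mod_lt _ (by norm_num)) (Nat.mod_lt _ (by norm_num))
  rw [dig0 n, dig1 n, dig2 n, dig3 n, dig4 n]
  exact h

/-- iterates -/
def itY (n : ℕ) : ℕ → ℕ
  | 0 => n
  | k + 1 => yA (itY n k)

/-- the orbit under `y` -/
def orbY (n : ℕ) : List ℕ := (List.range 11).map (itY n)

/-- nodup test -/
def ndB : List ℕ → Bool
  | [] => true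
  | a :: l => l.all (fun b => !(Nat.beq a b)) && ndB l

theorem ndB_sound : ∀ {l : List ℕ}, ndB l = true → l.Nodup
  | [], _ => List.nodup_nil
  | a :: l, h => by
    rw [ndB, Bool.and_eq_true] at h
    rw [List.nodup_cons]
    refine ⟨fun ha => ?_, ndB_sound h.2⟩
    have h1 := List.all_eq_true.1 h.1 a ha
    simp at h1

/-- the enumeration test -/
def good (κ n : ℕ) : Bool :=
  Nat.beq n 0 || ((List.range 11).any fun j => (Nat.beq κ 1 && Nat.beq (bA κ (itY n j)) 0) ||
    ndB (orbY n ++ orbY (bA κ (itY n j))))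

theorem good_all : ((List.range 243).all fun n => good 0 n && good 1 n) = true := by decide +kernel

theorem good_spec {κ n : ℕ} (hκ : κ < 2) (hn : n < 243) (h0 : n ≠ 0) :
    (κ = 1 ∧ ∃ j, bA κ (itY n j) = 0) ∨ ∃ j, (orbY n ++ orbY (bA κ (itY n j))).Nodup := by
  have h1 := List.all_eq_true.1 good_all n (List.mem_range.2 hn)
  rw [Bool.and_eq_true] at h1
  have h2 : good κ n = true := by
    interval_cases κ
    · exact h1.1
    · exact h1.2
  rw [good, Bool.or_eq_true] at h2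
  rcases h2 with h2 | h2
  · exact absurd (Nat.eq_of_beq_eq_true h2) h0
  · obtain ⟨j, -, h3⟩ := List.any_eq_true.1 h2
    rw [Bool.or_eq_true, Bool.and_eq_true] at h3
    rcases h3 with h3 | h3
    · exact Or.inl ⟨Nat.eq_of_beq_eq_true h3.1, j, Nat.eq_of_beq_eq_true h3.2⟩
    · exact Or.inr ⟨j, ndB_sound h3⟩

theorem yA_lt (n : ℕ) : yA n < 243 := by unfold yA; omega
theorem bA_lt (κ n : ℕ) : bA κ n < 243 := by unfold bA; omega

theorem itY_lt {n : ℕ} (h : n < 243) (j : ℕ) : itY n j < 243 := by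
  cases j with
  | zero => exact h
  | succ j => exact yA_lt _

section

variable {K : Type*} [Field K] {V : Type*} [AddCommGroup V] [Module K V] (ρ : Representation K Y V)

/-- `v` has weight `n` -/
def IsW (ω : K) (v : V) (n : ℕ) : Prop := ∀ i, i < 5 → ρ (letter (10 + i)) v = ω ^ dig i n • v

variable {ρ}

theorem apply_W_cons (k : ℕ) (w : List ℕ) (v : V) : ρ (W (k :: w)) v = ρ (letter k) (ρ (W w) v) := by
  rw [W_cons, map_mul, Module.End.mul_apply]

theorem apply_W_append (u w : List ℕ) (v : V) : ρ (W (u ++ w)) v = ρ (W u) (ρ (W w) v) := by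
  rw [W_append, map_mul, Module.End.mul_apply]

theorem apply_W_nil (v : V) : ρ (W []) v = v := by rw [W_nil, map_one, Module.End.one_apply]

theorem apply_W_one (k : ℕ) (v : V) : ρ (W [k]) v = ρ (letter k) v := by rw [W_one]

theorem apply_eq {u w : List ℕ} (h : eqW u w = true) (v : V) : ρ (W u) v = ρ (W w) v := by rw [W_eq h]

variable {ω ζ : K}

theorem omega_three (hω : ω ^ 2 + ω + 1 = 0) : ω ^ 3 = 1 := by
  have : ω ^ 3 - 1 = (ω - 1) * (ω ^ 2 + ω + 1) := by ring
  rw [hω, mul_zero] at this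
  exact sub_eq_zero.1 this

theorem omega_mod (hω : ω ^ 2 + ω + 1 = 0) (n : ℕ) : ω ^ (n % 3) = ω ^ n := by
  conv_rhs => rw [← Nat.mod_add_div n 3, pow_add, pow_mul, omega_three hω, one_pow, mul_one]

theorem omega_ne_one (hω : ω ^ 2 + ω + 1 = 0) (h3 : (3 : K) ≠ 0) : ω ≠ 1 := by
  rintro rfl
  apply h3
  rw [← hω]; norm_num

theorem omega_inj (hω : ω ^ 2 + ω + 1 = 0) (h3 : (3 : K) ≠ 0) {a b : ℕ} (ha : a < 3) (hb : b < 3)
    (h : ω ^ a = ω ^ b) : a = b := by
  have h1 := omega_ne_one hω h3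
  have h0 : ω ≠ 0 := by rintro rfl; norm_num at hω
  have h2 : ω ^ 2 ≠ 1 := by
    intro h2
    apply h1
    have := omega_three hω
    rw [pow_succ, h2, one_mul] at this
    exact this
  have h3' : ω ^ 2 ≠ ω := by
    intro h3'
    apply h1
    have : ω * (ω - 1) = 0 := by rw [mul_sub, mul_one, ← pow_two, h3', sub_self]
    rcases mul_eq_zero.1 this with h | h
    · exact absurd h h0
    · exact sub_eq_zero.1 h
  interval_cases a <;> interval_cases b
  · rfl
  · rw [pow_zero, pow_one] at h; exact absurd h.symm h1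
  · rw [pow_zero] at h; exact absurd h.symm h2
  · rw [pow_zero, pow_one] at h; exact absurd h h1
  · rfl
  · rw [pow_one] at h; exact absurd h.symm h3'
  · rw [pow_zero] at h; exact absurd h h2
  · rw [pow_one] at h; exact absurd h h3'
  · rfl

theorem dig_lt (i n : ℕ) : dig i n < 3 := Nat.mod_lt _ (by norm_num)

/-- nonzero vectors with different weights -/
theorem length_le [FiniteDimensional K V] (hω : ω ^ 2 + ω + 1 = 0) (h3 : (3 : K) ≠ 0) {L : List ℕ} (hL : L.Nodup)
    (h : ∀ n ∈ L, n < 243 ∧ ∃ v, v ≠ 0 ∧ IsW ρ ω v n) : L.length ≤ finrank K V := by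
  choose v hv using fun k : Fin L.length => (h (L.get k) (List.get_mem L k)).2
  have h1 : LinearIndependent K v := by
    refine linInd_of_wt (fun i : Fin 5 => ρ (letter (10 + i))) (fun k i => ω ^ dig i (L.get k)) ?_ v
      (fun k => (hv k).1) (fun k i => (hv k).2 i i.2)
    intro k k' hk
    have hd : ∀ i < 5, dig i (L.get k) = dig i (L.get k') := by
      intro i hi
      exact omega_inj hω h3 (dig_lt _ _) (dig_lt _ _) (congrFun hk ⟨i, hi⟩)
    have e : L.get k = L.get k' := by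
      have a1 := (h (L.get k) (List.get_mem L k)).1
      have a2 := (h (L.get k') (List.get_mem L k')).1
      have d0 := hd 0 (by norm_num)
      have d1 := hd 1 (by norm_num)
      have d2 := hd 2 (by norm_num)
      have d3 := hd 3 (by norm_num)
      have d4 := hd 4 (by norm_num)
      simp only [dig0, dig1, dig2, dig3, dig4] at d0 d1 d2 d3 d4
      omega
    exact (List.nodup_iff_injective_get.1 hL) e
  have h2 := h1.fintype_card_le_finrank
  rwa [Fintype.card_fin] at h2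

theorem isW_y (hω : ω ^ 2 + ω + 1 = 0) {v : V} {n : ℕ} (h : IsW ρ ω v n) : IsW ρ ω (ρ (letter 8) v) (yA n) := by
  have e : ∀ k s, eqW [k, 8] (8 :: s) = true → ρ (letter k) (ρ (letter 8) v) = ρ (letter 8) (ρ (W s) v) := by
    intro k s hs
    have h1 := apply_eq (ρ := ρ) hs v
    rwa [apply_W_cons, apply_W_one, apply_W_cons] at h1
  have h0 := h 0 (by norm_num)
  have h1 := h 1 (by norm_num)
  have h2 := h 2 (by norm_num)
  have h3 := h 3 (by norm_num)
  have h4 := h 4 (by norm_num)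
  norm_num at h0 h1 h2 h3 h4
  intro i hi
  interval_cases i
  · rw [e 10 [10, 10, 11, 12, 12, 14] (by decide +kernel)]
    simp only [apply_W_cons, apply_W_nil, h0, h1, h2, h4, map_smul, smul_smul]
    congr 1
    have e2 : dig 0 (yA n) = (2 * dig 0 n + dig 1 n + 2 * dig 2 n + dig 4 n) % 3 := by
      simp only [dig0, dig1, dig2, dig3, dig4, yA]; omega
    rw [e2, omega_mod hω]
    ring
  · rw [e 11 [10] (by decide +kernel)]
    simp only [apply_W_cons, apply_W_nil, h0, map_smul]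
    congr 2
    exact (dig_succ_yA n).1.symm
  · rw [e 12 [11] (by decide +kernel)]
    simp only [apply_W_cons, apply_W_nil, h1, map_smul]
    congr 2
    exact (dig_succ_yA n).2.1.symm
  · rw [e 13 [12] (by decide +kernel)]
    simp only [apply_W_cons, apply_W_nil, h2, map_smul]
    congr 2
    exact (dig_succ_yA n).2.2.1.symm
  · rw [e 14 [13] (by decide +kernel)]
    simp only [apply_W_cons, apply_W_nil, h3, map_smul]
    congr 2
    exact (dig_succ_yA n).2.2.2.symm

theorem isW_b (hω : ω ^ 2 + ω + 1 = 0) (hz : ∀ w, ρ z w = ζ • w) {κ : ℕ} (hκ : ζ ^ 2 = ω ^ κ) {v : V} {n : ℕ}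
    (h : IsW ρ ω v n) : IsW ρ ω (ρ (letter 1) v) (bA κ n) := by
  have e : ∀ k s, eqW [k, 1] (1 :: s) = true → ρ (letter k) (ρ (letter 1) v) = ρ (letter 1) (ρ (W s) v) := by
    intro k s hs
    have h1 := apply_eq (ρ := ρ) hs v
    rwa [apply_W_cons, apply_W_one, apply_W_cons] at h1
  have h0 := h 0 (by norm_num)
  have h1 := h 1 (by norm_num)
  have h2 := h 2 (by norm_num)
  have h3 := h 3 (by norm_num)
  have h4 := h 4 (by norm_num)
  norm_num at h0 h1 h2 h3 h4
  have hz' : ∀ w, ρ (letter 7) w = ζ • w := hz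
  intro i hi
  interval_cases i
  · rw [e 10 [10] (by decide +kernel)]
    simp only [apply_W_cons, apply_W_nil, h0, map_smul]
    congr 2
    exact (dig_bA κ n).1.symm
  · rw [e 11 [10, 10, 11, 11, 13, 14, 7, 7] (by decide +kernel)]
    simp only [apply_W_cons, apply_W_nil, h0, h1, h3, h4, hz', map_smul, smul_smul]
    congr 1
    have e2 := (dig_bA κ n).2.1
    rw [e2, omega_mod hω]
    rw [show (ω ^ (2 * dig 0 n + 2 * dig 1 n + dig 3 n + dig 4 n + κ)) =
      ω ^ (2 * dig 0 n + 2 * dig 1 n + dig 3 n + dig 4 n) * ω ^ κ from pow_add _ _ _, ← hκ]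
    ring
  · rw [e 12 [12] (by decide +kernel)]
    simp only [apply_W_cons, apply_W_nil, h2, map_smul]
    congr 2
    exact (dig_bA κ n).2.2.1.symm
  · rw [e 13 [14] (by decide +kernel)]
    simp only [apply_W_cons, apply_W_nil, h4, map_smul]
    congr 2
    exact (dig_bA κ n).2.2.2.1.symm
  · rw [e 14 [13] (by decide +kernel)]
    simp only [apply_W_cons, apply_W_nil, h3, map_smul]
    congr 2
    exact (dig_bA κ n).2.2.2.2.symm

theorem apply_ne {g : Y} {v : V} (hv : v ≠ 0) : ρ g v ≠ 0 := by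
  intro h
  apply hv
  have h1 : ρ g⁻¹ (ρ g v) = v := by
    rw [← Module.End.mul_apply, ← map_mul, inv_mul_cancel, map_one, Module.End.one_apply]
  rw [← h1, h, map_zero]

theorem exists_itY (hω : ω ^ 2 + ω + 1 = 0) {v : V} {n : ℕ} (hv : v ≠ 0) (h : IsW ρ ω v n) (j : ℕ) :
    ∃ w, w ≠ 0 ∧ IsW ρ ω w (itY n j) := by
  induction j with
  | zero => exact ⟨v, hv, h⟩
  | succ j ih =>
    obtain ⟨w, hw, hw'⟩ := ih
    exact ⟨_, apply_ne hw, isW_y hω hw'⟩

theorem lt_orbY {n : ℕ} (hn : n < 243) {m : ℕ} (hm : m ∈ orbY n) : m < 243 := by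
  obtain ⟨j, -, rfl⟩ := List.mem_map.1 hm
  exact itY_lt hn j

theorem exists_orbY (hω : ω ^ 2 + ω + 1 = 0) {v : V} {n : ℕ} (hv : v ≠ 0) (h : IsW ρ ω v n) {m : ℕ}
    (hm : m ∈ orbY n) : ∃ w, w ≠ 0 ∧ IsW ρ ω w m := by
  obtain ⟨j, -, rfl⟩ := List.mem_map.1 hm
  exact exists_itY hω hv h j

/-- **There is a vector of weight 0, and `ζ ^ 2 ≠ 1`.** -/
theorem exists_zero [FiniteDimensional K V] (hdim : finrank K V ≤ 12) (hω : ω ^ 2 + ω + 1 = 0) (h3 : (3 : K) ≠ 0)
    (hz : ∀ w, ρ z w = ζ • w) {κ : ℕ} (hκ2 : κ < 2) (hκ : ζ ^ 2 = ω ^ κ) (hne : ρ (letter 10) ≠ 1) :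
    κ = 1 ∧ ∃ v, v ≠ 0 ∧ IsW ρ ω v 0 := by
  -- a weight vector in the range of `a₀ - 1`
  have comm : ∀ i j, i < 5 → j < 5 → ∀ v, ρ (letter (10 + i)) (ρ (letter (10 + j)) v) =
      ρ (letter (10 + j)) (ρ (letter (10 + i)) v) := by
    have key : ∀ i j, eqW [i, j] [j, i] = true → ∀ v, ρ (letter i) (ρ (letter j) v) = ρ (letter j) (ρ (letter i) v) := by
      intro i j hij v
      have h1 := apply_eq (ρ := ρ) hij v
      rwa [apply_W_cons, apply_W_one, apply_W_cons, apply_W_one] at h1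
    intro i j hi hj v
    apply key
    interval_cases i <;> interval_cases j <;> decide +kernel
  have cube : ∀ i, i < 5 → ∀ v, ρ (letter (10 + i)) (ρ (letter (10 + i)) (ρ (letter (10 + i)) v)) = v := by
    have key : ∀ i, eqW [i, i, i] [] = true → ∀ v, ρ (letter i) (ρ (letter i) (ρ (letter i) v)) = v := by
      intro i hi v
      have h1 := apply_eq (ρ := ρ) hi v
      rwa [apply_W_cons, apply_W_cons, apply_W_one, apply_W_nil] at h1
    intro i hi v
    apply key
    interval_cases i <;> decide +kernel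
  obtain ⟨v, hvU, hv0, hv⟩ := exists_wt hω h3
    ((List.range 5).map fun i => ρ (letter (10 + i)))
    (by
      intro f hf g hg v
      obtain ⟨i, hi, rfl⟩ := List.mem_map.1 hf
      obtain ⟨j, hj, rfl⟩ := List.mem_map.1 hg
      exact comm i j (List.mem_range.1 hi) (List.mem_range.1 hj) v)
    (by
      intro f hf v
      obtain ⟨i, hi, rfl⟩ := List.mem_map.1 hf
      exact cube i (List.mem_range.1 hi) v)
    (LinearMap.range (ρ (letter 10) - 1))
    (by
      intro f hf u hu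
      obtain ⟨i, hi, rfl⟩ := List.mem_map.1 hf
      obtain ⟨w, rfl⟩ := hu
      refine ⟨ρ (letter (10 + i)) w, ?_⟩
      rw [LinearMap.sub_apply, LinearMap.sub_apply, map_sub, Module.End.one_apply, Module.End.one_apply]
      have h1 := comm 0 i (by norm_num) (List.mem_range.1 hi) w
      rw [h1])
    (by
      intro h
      apply hne
      rw [LinearMap.range_eq_bot, sub_eq_zero] at h
      exact h)
  have hex : ∀ i, i < 5 → ∃ j < 3, ρ (letter (10 + i)) v = ω ^ j • v := fun i hi =>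
    hv _ (List.mem_map.2 ⟨i, List.mem_range.2 hi, rfl⟩)
  obtain ⟨j0, hj0, e0⟩ := hex 0 (by norm_num)
  obtain ⟨j1, hj1, e1⟩ := hex 1 (by norm_num)
  obtain ⟨j2, hj2, e2⟩ := hex 2 (by norm_num)
  obtain ⟨j3, hj3, e3⟩ := hex 3 (by norm_num)
  obtain ⟨j4, hj4, e4⟩ := hex 4 (by norm_num)
  have hj0' : j0 ≠ 0 := by
    rintro rfl
    obtain ⟨w, hw⟩ := hvU
    rw [LinearMap.sub_apply, Module.End.one_apply] at hw
    rw [pow_zero, one_smul] at e0
    have c := cube 0 (by norm_num) w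
    have e0' : ρ (letter 10) v = v := e0
    have c' : ρ (letter 10) (ρ (letter 10) (ρ (letter 10) w)) = w := c
    have w1 : ρ (letter 10) w = v + w := by rw [← hw]; abel
    rw [w1, map_add, e0', w1, map_add, map_add, e0', w1] at c'
    have : (3 : K) • v = 0 := by
      have h5 : (3 : K) • v = (v + (v + (v + w))) - w := by module
      rw [h5, c', sub_self]
    rcases smul_eq_zero.1 this with h | h
    · exact h3 h
    · exact hv0 h
  set n := j0 + 3 * j1 + 9 * j2 + 27 * j3 + 81 * j4 with hn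
  have hn243 : n < 243 := by omega
  have hn0 : n ≠ 0 := by omega
  have hW : IsW ρ ω v n := by
    intro i hi
    have d0 : dig 0 n = j0 := by simp only [dig0, dig1, dig2, dig3, dig4]; omega
    have d1 : dig 1 n = j1 := by simp only [dig0, dig1, dig2, dig3, dig4]; omega
    have d2 : dig 2 n = j2 := by simp only [dig0, dig1, dig2, dig3, dig4]; omega
    have d3 : dig 3 n = j3 := by simp only [dig0, dig1, dig2, dig3, dig4]; omega
    have d4 : dig 4 n = j4 := by simp only [dig0, dig1, dig2, dig3, dig4]; omega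
    interval_cases i
    · rw [d0]; exact e0
    · rw [d1]; exact e1
    · rw [d2]; exact e2
    · rw [d3]; exact e3
    · rw [d4]; exact e4
  rcases good_spec hκ2 hn243 hn0 with ⟨h1, j, hj⟩ | ⟨j, hj⟩
  · refine ⟨h1, ?_⟩
    obtain ⟨w, hw0, hw⟩ := exists_itY hω hv0 hW j
    exact ⟨_, apply_ne hw0, hj ▸ isW_b hω hz hκ hw⟩
  · exfalso
    obtain ⟨w, hw0, hw⟩ := exists_itY hω hv0 hW j
    have h5 := length_le hω h3 hj (by
      intro m hm
      rcases List.mem_append.1 hm with hm | hm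
      · exact ⟨lt_orbY hn243 hm, exists_orbY hω hv0 hW hm⟩
      · exact ⟨lt_orbY (bA_lt _ _) hm, exists_orbY hω (apply_ne hw0) (isW_b hω hz hκ hw) hm⟩)
    have h6 : (orbY n ++ orbY (bA κ (itY n j))).length = 22 := by
      rw [List.length_append, orbY, orbY, List.length_map, List.length_map, List.length_range]
    omega

end

end Cfsg.Agent.H878.Sz
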