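import Cfsg.Agent.H878.Sz.Cov

/-!
# Words in the sixfold cover of `Suz`: the monomial subgroup `2 × 3^6 : M₁₁` (helper878)

Letters: `0..6 = a..g`, `7 = z` (scalar 3), `8 = y` (order 11), `9 = y⁻¹`, `10..14 = a₀..a₄` (`a_i = y^i a₀ y^-i`, order 3).
-/

set_option autoImplicit false
set_option maxRecDepth 100000

namespace Cfsg.Agent.H878.Sz

open Cfsg Cfsg.Spor Cfsg.Agent.H58.SuzRep Cfsg.Agent.Lib.PackMat

/-- packed matrix -/
def cY : ℕ := 0x10010040000000008020100000004008000080200000008040080000004000050000500c05000050000601800008000100000001010020040000004000060000501803018000000301800004000100001000004040100000004008000080000000004020100001001010000080000000004010040200004000030140300c060000000003018000000500006018060000000c0501800000060000500c06000000000501405014060000301405000000000501800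
/-- packed matrix -/
def cYi : ℕ := 0x4020000200004008010000000001014000140000c00000000180500c03010020000100001008020040000000000060140001400000000180301406000000180000c030000001803018050000001405018000000000c0300c050080200001008040100400000000000080100402000010080400000000000040200004000010040400004000000000000c00018000000601805014050000000c0000c0000c0000c0301403004010000100001010010000000400
/-- packed matrix -/
def cA0 : ℕ := 0x80300c0600c0500c03018050080500c0000c020040500403018050180500c030000200c0500c0300805018040140401000014020140500c0600c0600c0100c060000500c03018040180401806018040180001802014010140300c0100c0600c0500001008050180500c0300c0600c04004000180501804014050100301406010050000200c060180601805008010180601000014030100501403014060140500c0600806018060080500803018020140301400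
/-- packed matrix -/
def cA1 : ℕ := 0x1006000000180000c060000001405004060080100001000000040100000000030100001400014050000001405000060000401400018030000001406004000100401801000000100200000000060000001804014050000000c06008000100100004018000100100000004000100200004000060040400000000060000001400014060100001803000060000000c00018050000401805010000100400002000000040101800010000100100001000000080400006
/-- packed matrix -/
def cA2 : ℕ := 0xc0200c04010050040200801008030040301005004020080401002018060140400c050040200c0401002010040100300c03010010040200805008020100200804004010040200c010080200c01004020080301001004060140100801014020080400c05004040140100404010010040200c03010030100600404010010140200804004020100400801004030080601005004030040100406010010040300c040100200c04014060100100402008060100201003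
/-- packed matrix -/
def cA3 : ℕ := 0xc0100804010040040500c0301004008030040200802018040040500c020040200401014010080201004004010100100803010060040100c02018040100100c040040400401008020100401001008060100300401008030100600806004020080200c04014010080300c040040200802010030040100c0301402010050040100c0200c0400401014030100100405008020100300401010050080601004004050080200c04010010080401006014050080201003
/-- packed matrix -/
def cA4 : ℕ := 0xc04014050040400405010010100401001004010040400401018010100400c0200c040100201004008060080300c020100301803010040080400802008020100600c02010040080400c0301004004050040301401010050100400802010040100300c06008040080300c020100401002018030080400c02010060040100404004010040101004008020180401003010040080300c02010040040101404004050100500c04010040140101404014010100101003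
/-- packed matrix -/
def cZ : ℕ := 0xc0000000000000000000000000000000300000000000000000000000000000000c0000000000000000000000000000000300000000000000000000000000000000c0000000000000000000000000000000300000000000000000000000000000000c0000000000000000000000000000000300000000000000000000000000000000c0000000000000000000000000000000300000000000000000000000000000000c00000000000000000000000000000003

/-- codes of the base letters -/
def cdB : ℕ → ℕ
  | 0 => mA
  | 1 => mB
  | 2 => mC
  | 3 => mD
  | 4 => mE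
  | 5 => mF
  | 6 => mG
  | _ => cZ

/-- base letters -/
def base : ℕ → Y
  | 0 => s .a
  | 1 => s .b
  | 2 => s .c
  | 3 => s .d
  | 4 => s .e
  | 5 => s .f
  | 6 => s .g
  | _ => z

/-- the code `c` represents `g` -/
structure Cd (g : Y) (c : ℕ) : Prop where
  ok : okG C12 c = true
  val : mk c = ((g : M12ˣ) : M12)

theorem okZ : okG C12 cZ = true := by decide +kernel

theorem mkZ : mk cZ = (3 : ZMod 7) • (1 : M12) := by
  have h := prod_scalar (c := 3) (by decide) (w := [cZ])
    (fun g hg => by rw [List.mem_singleton] at hg; rw [hg]; exact okZ) (by decide +kernel)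
  simp only [List.map_cons, List.map_nil, List.prod_cons, List.prod_nil, mul_one] at h
  exact h

theorem cd_s (x : Suz.Gen) : Cd (s x) (code x) := ⟨ok_code x, rfl⟩

theorem cd_base : ∀ k, Cd (base k) (cdB k)
  | 0 => cd_s .a
  | 1 => cd_s .b
  | 2 => cd_s .c
  | 3 => cd_s .d
  | 4 => cd_s .e
  | 5 => cd_s .f
  | 6 => cd_s .g
  | _ + 7 => ⟨okZ, by rw [show cdB _ = cZ from rfl, mkZ]; exact coe_z.symm⟩

theorem cd_prod {L : List Y} {C : List ℕ} (h : List.Forall₂ Cd L C) :
    (C.map mk).prod = ((L.prod : M12ˣ) : M12) ∧ ∀ c ∈ C, okG C12 c = true := by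
  induction h with
  | nil => exact ⟨rfl, by simp⟩
  | cons h1 _ ih =>
    refine ⟨?_, ?_⟩
    · rw [List.map_cons, List.prod_cons, List.prod_cons, ih.1, h1.val, Subgroup.coe_mul, Units.val_mul]
    · intro c hc
      rcases List.mem_cons.1 hc with rfl | hc
      · exact h1.ok
      · exact ih.2 c hc

theorem prod_eq_of_cd {L L' : List Y} {C C' : List ℕ} (h : List.Forall₂ Cd L C) (h' : List.Forall₂ Cd L' C')
    (hc : checkEq C12 C C' 0 12 = true) : L.prod = L'.prod := by
  apply Subtype.ext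
  apply Units.ext
  rw [← (cd_prod h).1, ← (cd_prod h').1]
  exact prod_eq (cd_prod h).2 (cd_prod h').2 hc

theorem forall₂_map {f : ℕ → Y} {g : ℕ → ℕ} (h : ∀ k, Cd (f k) (g k)) : ∀ w : List ℕ,
    List.Forall₂ Cd (w.map f) (w.map g)
  | [] => List.Forall₂.nil
  | k :: w => List.Forall₂.cons (h k) (forall₂_map h w)

/-- a code from a product -/
theorem cd_of_prod {L : List Y} {C : List ℕ} {c : ℕ} (h : List.Forall₂ Cd L C) (hok : okG C12 c = true)
    (hc : checkEq C12 [c] C 0 12 = true) : Cd L.prod c := by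
  refine ⟨hok, ?_⟩
  rw [← (cd_prod h).1]
  have h1 := prod_eq (v := [c]) (w := C)
    (fun g hg => by rw [List.mem_singleton] at hg; rw [hg]; exact hok) (cd_prod h).2 hc
  simpa only [List.map_cons, List.map_nil, List.prod_cons, List.prod_nil, mul_one] using h1

theorem cd_inv {g : Y} {c c' : ℕ} (h : Cd g c) (hok : okG C12 c' = true)
    (hc : checkScalar C12 [c, c'] 1 0 12 = true) : Cd g⁻¹ c' := by
  refine ⟨hok, ?_⟩
  have h1 := prod_scalar (c := 1) (by decide) (w := [c, c'])
    (fun g hg => by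
      rcases List.mem_cons.1 hg with rfl | hg
      · exact h.ok
      · rw [List.mem_singleton] at hg; rw [hg]; exact hok) hc
  simp only [List.map_cons, List.map_nil, List.prod_cons, List.prod_nil, mul_one, Nat.cast_one, one_smul] at h1
  rw [h.val] at h1
  rw [Subgroup.coe_inv, ← Units.inv_mul_cancel_left (g : M12ˣ) (mk c'), h1, mul_one]

/-- word of `y` -/
def wy : List ℕ := [7, 7, 7, 7, 7, 6, 3, 4, 2, 3, 2, 1, 5, 6, 2, 3, 4, 2, 3, 1, 2, 6, 5, 4, 3, 2, 1, 2, 1, 3, 2, 4, 3, 2, 6, 5,
    1, 2, 3, 2, 4, 3, 6]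
/-- word of `a₀` -/
def wa : List ℕ := [7, 6, 3, 4, 2, 3, 2, 1, 5, 6, 2, 3, 4, 2, 3, 1, 2, 2, 1, 6, 5, 3, 4, 2, 3, 1, 2, 3, 4, 1, 2, 3, 2, 3, 1, 2,
    3, 2, 3, 1, 2, 3, 2, 3, 1, 2, 3, 2, 3, 1, 2, 3, 2, 3, 4, 3, 2, 1, 3, 2, 4, 3, 5, 6, 1, 2, 2, 1, 3, 2, 4, 3, 2,
    6, 5, 1, 2, 3, 2, 4, 3, 6]

/-- the element of order 11 -/
def ly : Y := (wy.map base).prod
/-- the element `a₀` of order 3 -/
def la : ℕ → Y
  | 0 => (wa.map base).prod
  | n + 1 => [ly, la n, ly⁻¹].prod

theorem cd_ly : Cd ly cY := cd_of_prod (forall₂_map cd_base wy) (by decide +kernel) (by decide +kernel)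
theorem cd_lyi : Cd ly⁻¹ cYi := cd_inv cd_ly (by decide +kernel) (by decide +kernel)
theorem cd_la0 : Cd (la 0) cA0 := cd_of_prod (forall₂_map cd_base wa) (by decide +kernel) (by decide +kernel)

theorem cd_step {n c c' : ℕ} (h : Cd (la n) c) (hok : okG C12 c' = true)
    (hc : checkEq C12 [c'] [cY, c, cYi] 0 12 = true) : Cd (la (n + 1)) c' :=
  cd_of_prod (L := [ly, la n, ly⁻¹]) (C := [cY, c, cYi])
    (List.Forall₂.cons cd_ly (List.Forall₂.cons h (List.Forall₂.cons cd_lyi List.Forall₂.nil))) hok hc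

theorem cd_la1 : Cd (la 1) cA1 := cd_step cd_la0 (by decide +kernel) (by decide +kernel)
theorem cd_la2 : Cd (la 2) cA2 := cd_step cd_la1 (by decide +kernel) (by decide +kernel)
theorem cd_la3 : Cd (la 3) cA3 := cd_step cd_la2 (by decide +kernel) (by decide +kernel)
theorem cd_la4 : Cd (la 4) cA4 := cd_step cd_la3 (by decide +kernel) (by decide +kernel)

/-- letters -/
def letter : ℕ → Y
  | 0 => s .a
  | 1 => s .b
  | 2 => s .c
  | 3 => s .d
  | 4 => s .e
  | 5 => s .f
  | 6 => s .g
  | 7 => z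
  | 8 => ly
  | 9 => ly⁻¹
  | 10 => la 0
  | 11 => la 1
  | 12 => la 2
  | 13 => la 3
  | _ => la 4

/-- codes of the letters -/
def cd : ℕ → ℕ
  | 0 => mA
  | 1 => mB
  | 2 => mC
  | 3 => mD
  | 4 => mE
  | 5 => mF
  | 6 => mG
  | 7 => cZ
  | 8 => cY
  | 9 => cYi
  | 10 => cA0
  | 11 => cA1
  | 12 => cA2
  | 13 => cA3
  | _ => cA4

theorem cd_letter : ∀ k, Cd (letter k) (cd k)
  | 0 => cd_s .a
  | 1 => cd_s .b
  | 2 => cd_s .c
  | 3 => cd_s .d
  | 4 => cd_s .e
  | 5 => cd_s .f
  | 6 => cd_s .g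
  | 7 => cd_base 7
  | 8 => cd_ly
  | 9 => cd_lyi
  | 10 => cd_la0
  | 11 => cd_la1
  | 12 => cd_la2
  | 13 => cd_la3
  | _ + 14 => cd_la4

/-- words -/
def W (w : List ℕ) : Y := (w.map letter).prod

theorem W_nil : W [] = 1 := rfl
theorem W_cons (k : ℕ) (w : List ℕ) : W (k :: w) = letter k * W w := by
  unfold W; rw [List.map_cons, List.prod_cons]
theorem W_append (u v : List ℕ) : W (u ++ v) = W u * W v := by
  unfold W; rw [List.map_append, List.prod_append]
theorem W_one (k : ℕ) : W [k] = letter k := by rw [W_cons, W_nil, mul_one]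

/-- equality test -/
noncomputable def eqW (u v : List ℕ) : Bool := checkEq C12 (u.map cd) (v.map cd) 0 12

theorem W_eq {u v : List ℕ} (h : eqW u v = true) : W u = W v :=
  prod_eq_of_cd (forall₂_map cd_letter u) (forall₂_map cd_letter v) h

/-- coset representatives -/
def rep : ℕ → List ℕ
  | 0 => [1]
  | 1 => [8, 1]
  | 2 => [8, 8, 1]
  | 3 => [8, 8, 8, 1]
  | 4 => [8, 8, 8, 8, 1]
  | 5 => [8, 8, 8, 8, 8, 1]
  | 6 => [8, 8, 8, 8, 8, 8, 1]
  | 7 => [8, 8, 8, 8, 8, 8, 8, 1]
  | 8 => [8, 8, 8, 8, 8, 8, 8, 8, 1]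
  | 9 => [8, 8, 8, 8, 8, 8, 8, 8, 8, 1]
  | 10 => [8, 8, 8, 8, 8, 8, 8, 8, 8, 8, 1]
  | _ => []

/-- transitions -/
def tabY : List (ℕ × List ℕ) := [(1, []), (2, []), (3, []), (4, []), (5, []), (6, []), (7, []), (8, []), (9, []), (10, []), (0, []), (11,
    [8])]
/-- transitions -/
def tabB : List (ℕ × List ℕ) := [(11, []), (1, [9, 9, 9, 9, 2, 8, 8, 8, 8, 12, 12, 14]), (10, [9, 9, 9, 9, 9, 2, 8, 8, 8, 8, 12, 12, 14, 7, 7,
    7, 7]), (7, [8, 2, 8, 8, 8, 2, 9, 11, 13, 13, 7, 7]), (6, [8, 8, 2, 9, 9, 9, 10, 10, 12, 12, 13, 13, 14, 7, 7,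
    7, 7]), (5, [2, 8, 2, 8, 2, 8, 11, 11, 13, 13, 14, 14]), (4, [8, 8, 8, 2, 9, 9, 12, 12, 13, 13, 14, 7, 7]),
    (3, [2, 8, 8, 8, 2, 9, 9, 10, 10, 11, 12, 12, 13, 13, 14, 7, 7, 7, 7]), (8, [9, 2, 8, 2, 9, 2, 9, 2, 8, 8, 11,
    12, 12, 14]), (9, [9, 9, 2, 9, 2, 8, 8, 8, 8, 8, 10, 11, 11, 12, 13, 14, 14]), (2, [9, 9, 9, 9, 2, 8, 8, 8, 8,
    8, 11, 11, 13, 7, 7]), (0, [])]
/-- transitions -/
def tabC : List (ℕ × List ℕ) := [(9, [9, 9, 2, 8, 8, 2, 9, 2, 11, 12, 7, 7, 7, 7]), (1, [2, 9, 2, 8, 2, 10, 13, 13, 14]), (5, [9, 2, 9, 2, 8,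
    8, 8, 8, 8, 10, 10, 14, 14]), (8, [9, 2, 9, 2, 8, 8, 8, 8, 2, 8, 10, 11, 14, 7, 7, 7, 7]), (6, [9, 9, 2, 8, 8,
    2, 9, 9, 9, 11, 13, 14, 7, 7]), (2, [9, 9, 2, 9, 2, 8, 8, 8, 8, 10, 11, 11, 13, 14]), (4, [8, 8, 8, 2, 9, 9,
    2, 8, 8, 10, 10, 11, 11, 12, 12, 14, 14, 7, 7, 7, 7]), (7, [2, 9, 2, 8, 2, 8, 2, 9, 10, 13, 13, 14]), (3, [2,
    8, 2, 8, 2, 8, 8, 8, 8, 8, 10, 10, 11, 11, 14, 7, 7]), (0, [2, 8, 2, 9, 9, 2, 8, 8, 10, 10, 11, 11, 14, 7,
    7]), (10, [2, 8, 8, 8, 8, 8, 2, 8, 2, 8, 8, 10, 12, 12, 13, 14, 14]), (11, [2])]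
/-- transitions -/
def tabA0 : List (ℕ × List ℕ) := [(0, [10]), (1, [10, 11, 11, 12, 12, 13, 13, 14, 7, 7]), (2, [10, 11, 11, 12, 14, 14, 7, 7]), (3, [10, 10, 12,
    12, 13, 13, 14, 14]), (4, [11, 11, 7, 7]), (5, [10, 10, 11, 11, 12, 13, 13, 7, 7]), (6, [11, 11, 12, 12, 13,
    14, 14, 7, 7]), (7, [13]), (8, [14]), (9, [12]), (10, [10, 10, 11, 11, 13, 14, 7, 7]), (11, [10])]
/-- transitions -/
def tabA1 : List (ℕ × List ℕ) := [(0, [10, 10, 11, 11, 13, 14, 7, 7]), (1, [10]), (2, [10, 11, 11, 12, 12, 13, 13, 14, 7, 7]), (3, [10, 11, 11,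
    12, 14, 14, 7, 7]), (4, [10, 10, 12, 12, 13, 13, 14, 14]), (5, [11, 11, 7, 7]), (6, [10, 10, 11, 11, 12, 13,
    13, 7, 7]), (7, [11, 11, 12, 12, 13, 14, 14, 7, 7]), (8, [13]), (9, [14]), (10, [12]), (11, [11])]
/-- transitions -/
def tabA2 : List (ℕ × List ℕ) := [(0, [12]), (1, [10, 10, 11, 11, 13, 14, 7, 7]), (2, [10]), (3, [10, 11, 11, 12, 12, 13, 13, 14, 7, 7]), (4,
    [10, 11, 11, 12, 14, 14, 7, 7]), (5, [10, 10, 12, 12, 13, 13, 14, 14]), (6, [11, 11, 7, 7]), (7, [10, 10, 11,
    11, 12, 13, 13, 7, 7]), (8, [11, 11, 12, 12, 13, 14, 14, 7, 7]), (9, [13]), (10, [14]), (11, [12])]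
/-- transitions -/
def tabA3 : List (ℕ × List ℕ) := [(0, [14]), (1, [12]), (2, [10, 10, 11, 11, 13, 14, 7, 7]), (3, [10]), (4, [10, 11, 11, 12, 12, 13, 13, 14, 7,
    7]), (5, [10, 11, 11, 12, 14, 14, 7, 7]), (6, [10, 10, 12, 12, 13, 13, 14, 14]), (7, [11, 11, 7, 7]), (8, [10,
    10, 11, 11, 12, 13, 13, 7, 7]), (9, [11, 11, 12, 12, 13, 14, 14, 7, 7]), (10, [13]), (11, [13])]
/-- transitions -/
def tabA4 : List (ℕ × List ℕ) := [(0, [13]), (1, [14]), (2, [12]), (3, [10, 10, 11, 11, 13, 14, 7, 7]), (4, [10]), (5, [10, 11, 11, 12, 12, 13,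
    13, 14, 7, 7]), (6, [10, 11, 11, 12, 14, 14, 7, 7]), (7, [10, 10, 12, 12, 13, 13, 14, 14]), (8, [11, 11, 7,
    7]), (9, [10, 10, 11, 11, 12, 13, 13, 7, 7]), (10, [11, 11, 12, 12, 13, 14, 14, 7, 7]), (11, [14])]

/-- letters fixing the line -/
def st (k : ℕ) : Bool := Nat.beq k 2 || (Nat.ble 7 k && Nat.ble k 14)

/-- transitions of the word `m` -/
noncomputable def chkM (m : List ℕ) (tab : List (ℕ × List ℕ)) : Bool :=
  (List.range 12).all fun x => eqW (m ++ rep x) (rep (tab.getD x (0, [])).1 ++ (tab.getD x (0, [])).2) &&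
    (tab.getD x (0, [])).2.all st && Nat.blt (tab.getD x (0, [])).1 12

theorem chkY : chkM [8] tabY = true := by decide +kernel
theorem chkB : chkM [1] tabB = true := by decide +kernel
theorem chkC : chkM [2] tabC = true := by decide +kernel
theorem chkA0 : chkM [10] tabA0 = true := by decide +kernel
theorem chkA1 : chkM [11] tabA1 = true := by decide +kernel
theorem chkA2 : chkM [12] tabA2 = true := by decide +kernel
theorem chkA3 : chkM [13] tabA3 = true := by decide +kernel
theorem chkA4 : chkM [14] tabA4 = true := by decide +kernel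

end Cfsg.Agent.H878.Sz
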