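import Cfsg.Agent.H878.Sz.Three

/-!
# Representations of `6.Suz` of degree at most 12 in characteristic `≠ 3`: the monomial frame (helper878)
-/

set_option autoImplicit false
set_option maxRecDepth 100000
set_option linter.unusedSimpArgs false

namespace Cfsg.Agent.H878.Sz

open Cfsg Cfsg.Spor Cfsg.Agent.H58.SuzRep Module

/-- tables of the `a_i` -/
def tabA : ℕ → List (ℕ × List ℕ)
  | 0 => tabA0
  | 1 => tabA1
  | 2 => tabA2
  | 3 => tabA3
  | _ => tabA4

/-- exponents of the weights -/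
def ex (i x : ℕ) : ℕ := ((tabA i).getD x (0, [])).2.count 7

/-- letters in `A` -/
def stA (k : ℕ) : Bool := Nat.beq k 7 || (Nat.ble 10 k && Nat.ble k 14)

theorem tabA_chk : ((List.range 5).all fun i => (List.range 12).all fun x =>
    Nat.beq ((tabA i).getD x (0, [])).1 x && ((tabA i).getD x (0, [])).2.all stA &&
      (Nat.beq (ex i x) 0 || Nat.beq (ex i x) 2)) = true := by decide +kernel

theorem ex_chk : ((List.range 12).all fun x => (List.range 12).all fun x' =>
    Nat.beq x x' || (List.range 5).any fun i => !(Nat.beq (ex i x) (ex i x'))) = true := by decide +kernel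

theorem ex_last : ∀ i < 5, ex i 11 = 0 := by decide +kernel

theorem tabA_spec {i x : ℕ} (hi : i < 5) (hx : x < 12) : ((tabA i).getD x (0, [])).1 = x ∧
    ((tabA i).getD x (0, [])).2.all stA = true ∧ (ex i x = 0 ∨ ex i x = 2) := by
  have h1 := List.all_eq_true.1 (List.all_eq_true.1 tabA_chk i (List.mem_range.2 hi)) x (List.mem_range.2 hx)
  rw [Bool.and_eq_true, Bool.and_eq_true, Bool.or_eq_true] at h1
  exact ⟨Nat.eq_of_beq_eq_true h1.1.1, h1.1.2, h1.2.imp Nat.eq_of_beq_eq_true Nat.eq_of_beq_eq_true⟩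

theorem ex_spec {x x' : ℕ} (hx : x < 12) (hx' : x' < 12) (h : ∀ i < 5, ex i x = ex i x') : x = x' := by
  have h1 := List.all_eq_true.1 (List.all_eq_true.1 ex_chk x (List.mem_range.2 hx)) x' (List.mem_range.2 hx')
  rw [Bool.or_eq_true] at h1
  rcases h1 with h1 | h1
  · exact Nat.eq_of_beq_eq_true h1
  · exfalso
    obtain ⟨i, hi, h2⟩ := List.any_eq_true.1 h1
    rw [h i (List.mem_range.1 hi)] at h2
    simp at h2

theorem chkM_spec {m : List ℕ} {tab : List (ℕ × List ℕ)} (h : chkM m tab = true) {x : ℕ} (hx : x < 12) :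
    W (m ++ rep x) = W (rep (tab.getD x (0, [])).1 ++ (tab.getD x (0, [])).2) ∧
    (tab.getD x (0, [])).2.all st = true ∧ (tab.getD x (0, [])).1 < 12 := by
  have h1 := List.all_eq_true.1 h x (List.mem_range.2 hx)
  rw [Bool.and_eq_true, Bool.and_eq_true] at h1
  refine ⟨W_eq h1.1.1, h1.1.2, ?_⟩
  exact Nat.le_of_ble_eq_true h1.2

theorem chkA_spec {i x : ℕ} (hi : i < 5) (hx : x < 12) :
    W ([10 + i] ++ rep x) = W (rep x ++ ((tabA i).getD x (0, [])).2) := by
  have key : chkM [10 + i] (tabA i) = true := by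
    interval_cases i
    · exact chkA0
    · exact chkA1
    · exact chkA2
    · exact chkA3
    · exact chkA4
  have h1 := (chkM_spec key hx).1
  rwa [(tabA_spec hi hx).1] at h1

section

variable {K : Type*} [Field K] {V : Type*} [AddCommGroup V] [Module K V] {ρ : Representation K Y V} {ζ : K}

/-- the vectors of the frame -/
def vec (ρ : Representation K Y V) (v : V) (x : Fin 12) : V := ρ (W (rep x)) v

theorem vec_last (v : V) : vec ρ v 11 = v := by
  have : rep ((11 : Fin 12) : ℕ) = [] := rfl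
  rw [vec, this, apply_W_nil]

theorem apply_A (hz : ∀ w, ρ z w = ζ • w) {v : V} (hv : ∀ i < 5, ρ (letter (10 + i)) v = v) :
    ∀ {s : List ℕ}, s.all stA = true → ρ (W s) v = ζ ^ s.count 7 • v
  | [], _ => by rw [apply_W_nil]; simp
  | k :: s, h => by
    rw [List.all_cons, Bool.and_eq_true] at h
    rw [apply_W_cons, apply_A hz hv h.2, map_smul]
    have h1 := h.1
    unfold stA at h1
    rw [Bool.or_eq_true, Bool.and_eq_true] at h1
    rcases h1 with h1 | h1
    · have : k = 7 := Nat.eq_of_beq_eq_true h1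
      subst this
      have hz' : ρ (letter 7) v = ζ • v := hz v
      rw [hz', smul_smul, List.count_cons_self, pow_succ]
    · have ha := Nat.le_of_ble_eq_true h1.1
      have hb := Nat.le_of_ble_eq_true h1.2
      have : k = 10 + (k - 10) := by omega
      rw [this, hv (k - 10) (by omega), List.count_cons_of_ne (by omega)]

theorem vec_wt (hz : ∀ w, ρ z w = ζ • w) {v : V} (hv : ∀ i < 5, ρ (letter (10 + i)) v = v) (x : Fin 12) (i : Fin 5) :
    ρ (letter (10 + i)) (vec ρ v x) = ζ ^ ex i x • vec ρ v x := by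
  unfold vec
  rw [← apply_W_one (10 + (i : ℕ)), ← apply_W_append, chkA_spec i.2 x.2, apply_W_append,
    apply_A hz hv (tabA_spec i.2 x.2).2.1, map_smul]
  rfl

theorem pow_ex_inj (hp : ζ ^ 4 + ζ ^ 2 + 1 = 0) (h3 : (3 : K) ≠ 0) :
    Function.Injective fun (x : Fin 12) (i : Fin 5) => ζ ^ ex i x := by
  intro x x' h
  apply Fin.ext
  apply ex_spec x.2 x'.2
  intro i hi
  have hne : ζ ^ 2 ≠ 1 := by
    intro e
    apply h3
    rw [← hp, show ζ ^ 4 = (ζ ^ 2) ^ 2 by ring, e]; norm_num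
  have h1 : ζ ^ ex i x = ζ ^ ex i x' := congrFun h ⟨i, hi⟩
  rcases (tabA_spec hi x.2).2.2 with e | e <;> rcases (tabA_spec hi x'.2).2.2 with e' | e' <;>
    rw [e, e'] at h1 ⊢
  · rw [pow_zero] at h1; exact absurd h1.symm hne
  · rw [pow_zero] at h1; exact absurd h1 hne

theorem vec_linInd (hz : ∀ w, ρ z w = ζ • w) (hp : ζ ^ 4 + ζ ^ 2 + 1 = 0) (h3 : (3 : K) ≠ 0) {v : V} (hv0 : v ≠ 0)
    (hv : ∀ i < 5, ρ (letter (10 + i)) v = v) : LinearIndependent K (vec ρ v) :=
  linInd_of_wt (fun i : Fin 5 => ρ (letter (10 + i))) (fun (x : Fin 12) (i : Fin 5) => ζ ^ ex i x)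
    (pow_ex_inj hp h3) _
    (fun _ => apply_ne hv0) (fun x i => vec_wt hz hv x i)

/-- the frame vector -/
structure Fr (ρ : Representation K Y V) (ζ : K) (v : V) : Prop where
  ne : v ≠ 0
  z : ∀ w, ρ z w = ζ • w
  prim : ζ ^ 4 + ζ ^ 2 + 1 = 0
  a : ∀ i < 5, ρ (letter (10 + i)) v = v
  y : ρ (letter 8) v = v
  c : ρ (letter 2) v = v

/-- **The frame.** -/
theorem frame [FiniteDimensional K V] (hdim : finrank K V ≤ 12) (h3 : (3 : K) ≠ 0) (hz : ∀ w, ρ z w = ζ • w)
    (hω : ∃ ω : K, ω ^ 2 + ω + 1 = 0) (hne : ρ (letter 10) ≠ 1) : finrank K V = 12 ∧ ∃ v, Fr ρ ζ v := by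
  -- `ζ`
  have hζ6 : ζ ^ 6 = 1 := by
    obtain ⟨v, hv⟩ : ∃ v, ρ (letter 10) v ≠ v := by
      by_contra h
      push Not at h
      exact hne (LinearMap.ext h)
    have hv0 : v ≠ 0 := by rintro rfl; simp at hv
    have h1 : ρ (z ^ 6) v = ζ ^ 6 • v := by
      rw [map_pow]
      simp only [pow_succ, pow_zero, one_mul, Module.End.mul_apply, hz, map_smul, smul_smul]
      congr 1
      ring
    rw [z_pow_six, map_one, Module.End.one_apply] at h1
    have h2 : (1 - ζ ^ 6) • v = 0 := by rw [sub_smul, one_smul, ← h1, sub_self]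
    rcases smul_eq_zero.1 h2 with h | h
    · exact (sub_eq_zero.1 h).symm
    · exact absurd h hv0
  obtain ⟨ω, hω, κ, hκ2, hκ⟩ : ∃ ω : K, ω ^ 2 + ω + 1 = 0 ∧ ∃ κ < 2, ζ ^ 2 = ω ^ κ := by
    by_cases h1 : ζ ^ 2 = 1
    · obtain ⟨ω, hω⟩ := hω
      exact ⟨ω, hω, 0, by norm_num, by rw [h1, pow_zero]⟩
    · refine ⟨ζ ^ 2, ?_, 1, by norm_num, by rw [pow_one]⟩
      have h2 : (ζ ^ 2 - 1) * ((ζ ^ 2) ^ 2 + ζ ^ 2 + 1) = 0 := by
        have : (ζ ^ 2 - 1) * ((ζ ^ 2) ^ 2 + ζ ^ 2 + 1) = ζ ^ 6 - 1 := by ring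
        rw [this, hζ6, sub_self]
      rcases mul_eq_zero.1 h2 with h | h
      · exact absurd (sub_eq_zero.1 h) h1
      · exact h
  obtain ⟨hκ1, v, hv0, hv⟩ := exists_zero hdim hω h3 hz hκ2 hκ hne
  rw [hκ1, pow_one] at hκ
  have hp : ζ ^ 4 + ζ ^ 2 + 1 = 0 := by rw [show ζ ^ 4 = (ζ ^ 2) ^ 2 by ring, hκ]; exact hω
  have hva : ∀ i < 5, ρ (letter (10 + i)) v = v := by
    intro i hi
    have h1 := hv i hi
    have h2 : dig i 0 = 0 := by unfold dig; simp
    rwa [h2, pow_zero, one_smul] at h1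
  have hli := vec_linInd hz hp h3 hv0 hva
  have hcard : finrank K V = 12 := by
    have h1 := hli.fintype_card_le_finrank
    rw [Fintype.card_fin] at h1
    omega
  refine ⟨hcard, v, ?_⟩
  set B : Basis (Fin 12) K V := basisOfLinearIndependentOfCardEqFinrank hli (by rw [Fintype.card_fin, hcard]) with hB
  have hBv : ∀ x, B x = vec ρ v x := fun x => by rw [hB]; simp
  have scal : ∀ k, (∀ i < 5, ∃ s, eqW [10 + i, k] (k :: s) = true ∧ s.all stA = true ∧ s.count 7 = 0) →
      ∃ c : K, ρ (letter k) v = c • v := by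
    intro k hk
    obtain ⟨c, hc⟩ := smul_of_wt (fun i : Fin 5 => ρ (letter (10 + i))) (fun (x : Fin 12) (i : Fin 5) => ζ ^ ex i x)
      (pow_ex_inj hp h3) B (fun x i => by rw [hBv]; exact vec_wt hz hva x i) (x₀ := 11) (u := ρ (letter k) v) (by
        intro i
        obtain ⟨s, hs, hs1, hs2⟩ := hk i i.2
        have h1 := apply_eq (ρ := ρ) hs v
        rw [apply_W_cons, apply_W_one, apply_W_cons, apply_A hz hva hs1, hs2, pow_zero, one_smul] at h1
        have h2 : ex i ((11 : Fin 12) : ℕ) = 0 := ex_last i i.2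
        simp only [h2, pow_zero, one_smul]
        exact h1)
    refine ⟨c, ?_⟩
    rw [hc, hBv, vec_last]
  obtain ⟨cy, hcy⟩ := scal 8 (by
    intro i hi
    interval_cases i
    · exact ⟨[10, 10, 11, 12, 12, 14], by decide +kernel, by decide, by decide⟩
    · exact ⟨[10], by decide +kernel, by decide, by decide⟩
    · exact ⟨[11], by decide +kernel, by decide, by decide⟩
    · exact ⟨[12], by decide +kernel, by decide, by decide⟩
    · exact ⟨[13], by decide +kernel, by decide, by decide⟩)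
  obtain ⟨cc, hcc⟩ := scal 2 (by
    intro i hi
    interval_cases i
    · exact ⟨[10], by decide +kernel, by decide, by decide⟩
    · exact ⟨[13], by decide +kernel, by decide, by decide⟩
    · exact ⟨[12], by decide +kernel, by decide, by decide⟩
    · exact ⟨[11], by decide +kernel, by decide, by decide⟩
    · exact ⟨[10, 10, 11, 12, 13, 14, 14], by decide +kernel, by decide, by decide⟩)
  have cancel : ∀ {c : K}, c • v = v → c = 1 := by
    intro c hc
    have h2 : (c - 1) • v = 0 := by rw [sub_smul, one_smul, hc, sub_self]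
    rcases smul_eq_zero.1 h2 with h | h
    · exact sub_eq_zero.1 h
    · exact absurd h hv0
  have e11 : cy ^ 11 = 1 := by
    apply cancel
    have h1 := apply_eq (ρ := ρ) (u := [8, 8, 8, 8, 8, 8, 8, 8, 8, 8, 8]) (w := []) (by decide +kernel) v
    simp only [apply_W_cons, apply_W_nil, hcy, map_smul, smul_smul] at h1
    rw [← h1]; congr 1; ring
  have e2 : cc ^ 2 = 1 := by
    apply cancel
    have h1 := apply_eq (ρ := ρ) (u := [2, 2]) (w := []) (by decide +kernel) v
    simp only [apply_W_cons, apply_W_nil, hcc, map_smul, smul_smul] at h1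
    rw [← h1]; congr 1; ring
  have e3 : cy ^ 6 * cc ^ 3 = 1 := by
    apply cancel
    have h1 := apply_eq (ρ := ρ) (u := [8, 8, 2, 8, 8, 2, 8, 8, 2]) (w := [10, 12, 14]) (by decide +kernel) v
    have a0 := hva 0 (by norm_num)
    have a2 := hva 2 (by norm_num)
    have a4 := hva 4 (by norm_num)
    norm_num at a0 a2 a4
    simp only [apply_W_cons, apply_W_nil, hcc, hcy, map_smul, smul_smul, a0, a2, a4] at h1
    rw [← h1]
    congr 1
    ring
  have hcy1 : cy = 1 := by
    have h1 : cy ^ 12 = 1 := by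
      have : cy ^ 12 = (cy ^ 6 * cc ^ 3) ^ 2 * ((cc ^ 2) ^ 3)⁻¹ := by
        rw [e2]; rw [show (cy ^ 6 * cc ^ 3) ^ 2 = cy ^ 12 * (cc ^ 2) ^ 3 by ring, e2]; ring
      rw [this, e3, e2]; norm_num
    rw [pow_succ, e11, one_mul] at h1
    exact h1
  have hcc1 : cc = 1 := by
    rw [hcy1, one_pow, one_mul, pow_succ, e2, one_mul] at e3
    exact e3
  exact ⟨hv0, hz, hp, hva, by rw [hcy, hcy1, one_smul], by rw [hcc, hcc1, one_smul]⟩

end

end Cfsg.Agent.H878.Sz
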