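import Cfsg.Agent.H878.Sz.ThreeFrame

/-!
# Representations of `6.Suz` of degree at most 12 in characteristic `≠ 3`: uniqueness (helper878)

`trace_unique` : two such representations with the same `ζ` have the same traces.
-/

set_option autoImplicit false
set_option maxRecDepth 100000
set_option linter.unusedSimpArgs false

namespace Cfsg.Agent.H878.Sz

open Cfsg Cfsg.Spor Cfsg.Agent.H58.SuzRep Module

/-! ### data -/

/-- the diagonal elements normalised -/
def us : ℕ → List ℕ
  | 0 => [10]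
  | 1 => [12, 13, 14]
  | 2 => [13, 14, 14]
  | _ => [11, 13, 14]

/-- the monomial elements -/
def gs : ℕ → List ℕ
  | 0 => [1]
  | 1 => [9, 1, 9]
  | _ => [2, 9, 2, 1, 5, 9]

/-- paths -/
def paths : List (List ℕ × List ℕ) :=
  [([0], []), ([1, 0], [9, 9, 9, 9, 2, 8, 8, 8, 8, 8, 11, 11, 13, 7, 7]),
    ([0, 1], [9, 9, 9, 9, 2, 8, 8, 8, 8, 12, 12, 14, 7, 7]), ([2], [8, 2, 9, 2, 10, 12, 12, 13, 14, 14]),
    ([2, 1], [8, 8, 2, 9, 2, 9, 9, 10, 10, 11, 11, 14, 7, 7]),
    ([2, 1, 0], [8, 8, 2, 8, 2, 8, 8, 8, 10, 10, 11, 12, 12, 13, 13, 7, 7]),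
    ([2, 0, 1], [9, 9, 9, 2, 9, 2, 9, 9, 9, 10, 11, 12, 14]), ([0, 2], [9, 2, 9, 9, 10, 10, 11, 11, 13, 13, 7, 7]),
    ([1, 1], [9, 9, 2, 9, 2, 8, 8, 8, 8, 10, 10, 14]),
    ([2, 0], [8, 2, 9, 9, 9, 9, 2, 9, 10, 10, 11, 11, 12, 12, 14, 7, 7, 7, 7]), ([1], [9]), ([], [])]

/-- the word of a path -/
def pathW (x : ℕ) : List ℕ := ((paths.getD x ([], [])).1.map gs).flatten

theorem path_chk : ((List.range 12).all fun x => eqW (pathW x) (rep x ++ (paths.getD x ([], [])).2) &&
    (paths.getD x ([], [])).2.all st) = true := by decide +kernel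

/-- exponents of `us` -/
def exu (k x : ℕ) : ℕ := ((us k).map fun l => ex (l - 10) x).sum

theorem exu_chk : ((List.range 12).all fun x => (List.range 12).all fun x' =>
    Nat.beq x x' || (List.range 4).any fun k => !(Nat.beq (exu k x / 2 % 3) (exu k x' / 2 % 3))) = true := by
  decide +kernel

theorem exu_even : ((List.range 4).all fun k => (List.range 12).all fun x => Nat.beq (exu k x % 2) 0) = true := by
  decide +kernel

theorem us_chk : ((List.range 4).all fun k => (us k).all fun l => Nat.ble 10 l && Nat.ble l 14) = true := by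
  decide +kernel

/-! ### the theory -/

section

variable {K : Type*} [Field K] {V : Type*} [AddCommGroup V] [Module K V] {ρ : Representation K Y V} {ζ : K}
  {V' : Type*} [AddCommGroup V'] [Module K V'] {τ : Representation K Y V'}

theorem apply_st {v : V} (hF : Fr ρ ζ v) : ∀ {s : List ℕ}, s.all st = true → ρ (W s) v = ζ ^ s.count 7 • v
  | [], _ => by rw [apply_W_nil]; simp
  | k :: s, h => by
    rw [List.all_cons, Bool.and_eq_true] at h
    rw [apply_W_cons, apply_st hF h.2, map_smul]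
    have h1 := h.1
    unfold st at h1
    rw [Bool.or_eq_true, Bool.and_eq_true] at h1
    rcases h1 with h1 | h1
    · have : k = 2 := Nat.eq_of_beq_eq_true h1
      subst this
      rw [hF.c, List.count_cons_of_ne (by norm_num)]
    · have ha := Nat.le_of_ble_eq_true h1.1
      have hb := Nat.le_of_ble_eq_true h1.2
      rcases Nat.lt_or_ge k 10 with hk | hk
      · interval_cases k
        · have hz' : ρ (letter 7) v = ζ • v := hF.z v
          rw [hz', smul_smul, List.count_cons_self, pow_succ]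
        · rw [hF.y, List.count_cons_of_ne (by norm_num)]
        · have hy' : ρ (letter 9) v = v := by
            have h2 : ρ (letter 9) (ρ (letter 8) v) = v := by
              rw [← Module.End.mul_apply, ← map_mul]
              have : letter 9 * letter 8 = 1 := inv_mul_cancel ly
              rw [this, map_one, Module.End.one_apply]
            rwa [hF.y] at h2
          rw [hy', List.count_cons_of_ne (by norm_num)]
      · have : k = 10 + (k - 10) := by omega
        rw [this, hF.a (k - 10) (by omega), List.count_cons_of_ne (by omega)]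

theorem mono {v : V} (hF : Fr ρ ζ v) {m : List ℕ} {tab : List (ℕ × List ℕ)} (h : chkM m tab = true) (x : Fin 12) :
    ρ (W m) (vec ρ v x) = ζ ^ (tab.getD x (0, [])).2.count 7 • vec ρ v ⟨(tab.getD x (0, [])).1, (chkM_spec h x.2).2.2⟩ := by
  have h1 := chkM_spec h x.2
  have e : ρ (W m) (ρ (W (rep x)) v) = ζ ^ (tab.getD x (0, [])).2.count 7 • ρ (W (rep (tab.getD x (0, [])).1)) v := by
    rw [← apply_W_append, h1.1, apply_W_append, apply_st hF h1.2.1, map_smul]
  exact e

/-- the basis -/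
noncomputable def bas (h3 : (3 : K) ≠ 0) {v : V} (hF : Fr ρ ζ v) (hd : finrank K V = 12) : Basis (Fin 12) K V :=
  basisOfLinearIndependentOfCardEqFinrank (vec_linInd hF.z hF.prim h3 hF.ne hF.a) (by rw [Fintype.card_fin, hd])

theorem bas_apply (h3 : (3 : K) ≠ 0) {v : V} (hF : Fr ρ ζ v) (hd : finrank K V = 12) (x : Fin 12) :
    bas h3 hF hd x = vec ρ v x := by
  unfold bas; simp

/-- the comparison -/
noncomputable def cmp (h3 : (3 : K) ≠ 0) {v : V} (hF : Fr ρ ζ v) (hd : finrank K V = 12) {v' : V'} (hF' : Fr τ ζ v')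
    (hd' : finrank K V' = 12) : V ≃ₗ[K] V' :=
  (bas h3 hF hd).equiv (bas h3 hF' hd') (Equiv.refl _)

theorem cmp_vec (h3 : (3 : K) ≠ 0) {v : V} (hF : Fr ρ ζ v) (hd : finrank K V = 12) {v' : V'} (hF' : Fr τ ζ v')
    (hd' : finrank K V' = 12) (x : Fin 12) : cmp h3 hF hd hF' hd' (vec ρ v x) = vec τ v' x := by
  rw [← bas_apply h3 hF hd, cmp, Basis.equiv_apply, Equiv.refl_apply, bas_apply]

theorem mem_S_of_chk (h3 : (3 : K) ≠ 0) {v : V} (hF : Fr ρ ζ v) (hd : finrank K V = 12) {v' : V'} (hF' : Fr τ ζ v')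
    (hd' : finrank K V' = 12) {m : List ℕ} {tab : List (ℕ × List ℕ)} (h : chkM m tab = true) :
    W m ∈ S ρ τ (cmp h3 hF hd hF' hd') := by
  apply mem_S_of_basis (bas h3 hF hd)
  intro x
  rw [bas_apply, cmp_vec, mono hF h, mono hF' h, map_smul, cmp_vec]

/-- good letters -/
def gl (k : ℕ) : Bool := Nat.beq k 1 || Nat.beq k 2 || Nat.beq k 5 || (Nat.ble 7 k && Nat.ble k 14)

theorem W_mem {H : Subgroup Y} {p : ℕ → Bool} (hp : ∀ k, p k = true → letter k ∈ H) :
    ∀ {w : List ℕ}, w.all p = true → W w ∈ H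
  | [], _ => by rw [W_nil]; exact one_mem _
  | k :: w, h => by
    rw [List.all_cons, Bool.and_eq_true] at h
    rw [W_cons]
    exact mul_mem (hp k h.1) (W_mem hp h.2)

theorem letter_mem_S (h3 : (3 : K) ≠ 0) {v : V} (hF : Fr ρ ζ v) (hd : finrank K V = 12) {v' : V'} (hF' : Fr τ ζ v')
    (hd' : finrank K V' = 12) (k : ℕ) (hk : gl k = true) : letter k ∈ S ρ τ (cmp h3 hF hd hF' hd') := by
  have a1 : letter 1 ∈ S ρ τ (cmp h3 hF hd hF' hd') := by rw [← W_one]; exact mem_S_of_chk h3 hF hd hF' hd' chkB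
  have a2 : letter 2 ∈ S ρ τ (cmp h3 hF hd hF' hd') := by rw [← W_one]; exact mem_S_of_chk h3 hF hd hF' hd' chkC
  have a8 : letter 8 ∈ S ρ τ (cmp h3 hF hd hF' hd') := by rw [← W_one]; exact mem_S_of_chk h3 hF hd hF' hd' chkY
  have a9 : letter 9 ∈ S ρ τ (cmp h3 hF hd hF' hd') := inv_mem a8
  have a10 : letter 10 ∈ S ρ τ (cmp h3 hF hd hF' hd') := by rw [← W_one]; exact mem_S_of_chk h3 hF hd hF' hd' chkA0
  have a11 : letter 11 ∈ S ρ τ (cmp h3 hF hd hF' hd') := by rw [← W_one]; exact mem_S_of_chk h3 hF hd hF' hd' chkA1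
  have a12 : letter 12 ∈ S ρ τ (cmp h3 hF hd hF' hd') := by rw [← W_one]; exact mem_S_of_chk h3 hF hd hF' hd' chkA2
  have a13 : letter 13 ∈ S ρ τ (cmp h3 hF hd hF' hd') := by rw [← W_one]; exact mem_S_of_chk h3 hF hd hF' hd' chkA3
  have a14 : letter 14 ∈ S ρ τ (cmp h3 hF hd hF' hd') := by rw [← W_one]; exact mem_S_of_chk h3 hF hd hF' hd' chkA4
  have a7 : letter 7 ∈ S ρ τ (cmp h3 hF hd hF' hd') := by
    intro w
    have h1 : ρ (letter 7) w = ζ • w := hF.z w
    have h2 : ∀ w, τ (letter 7) w = ζ • w := hF'.z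
    rw [h1, h2, map_smul]
  have a5 : letter 5 ∈ S ρ τ (cmp h3 hF hd hF' hd') := by
    have e : W [5] = W [9, 9, 9, 9, 9, 2, 8, 8, 8, 8, 8, 10, 10, 11, 11, 12, 12, 13, 13] := W_eq (by decide +kernel)
    rw [← W_one, e]
    refine W_mem (p := fun k => Nat.beq k 2 || Nat.beq k 8 || Nat.beq k 9 || Nat.beq k 10 || Nat.beq k 11 ||
      Nat.beq k 12 || Nat.beq k 13) ?_ (by decide)
    intro k hk
    simp only [Bool.or_eq_true] at hk
    rcases hk with ((((((hk | hk) | hk) | hk) | hk) | hk) | hk)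
    · rw [Nat.eq_of_beq_eq_true hk]; exact a2
    · rw [Nat.eq_of_beq_eq_true hk]; exact a8
    · rw [Nat.eq_of_beq_eq_true hk]; exact a9
    · rw [Nat.eq_of_beq_eq_true hk]; exact a10
    · rw [Nat.eq_of_beq_eq_true hk]; exact a11
    · rw [Nat.eq_of_beq_eq_true hk]; exact a12
    · rw [Nat.eq_of_beq_eq_true hk]; exact a13
  unfold gl at hk
  simp only [Bool.or_eq_true, Bool.and_eq_true] at hk
  rcases hk with ((hk | hk) | hk) | hk
  · rw [Nat.eq_of_beq_eq_true hk]; exact a1
  · rw [Nat.eq_of_beq_eq_true hk]; exact a2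
  · rw [Nat.eq_of_beq_eq_true hk]; exact a5
  · have ha := Nat.le_of_ble_eq_true hk.1
    have hb := Nat.le_of_ble_eq_true hk.2
    clear hk
    interval_cases k
    · exact a7
    · exact a8
    · exact a9
    · exact a10
    · exact a11
    · exact a12
    · exact a13
    · exact a14

/-- the words of `M ∩ M^d` -/
def Dw : ℕ → List ℕ
  | 0 => [10]
  | 1 => [12, 13, 14]
  | 2 => [13, 14, 14]
  | 3 => [11, 13, 14]
  | 4 => [1]
  | 5 => [9, 1, 9]
  | _ => [2, 9, 2, 1, 5, 9]

/-- their conjugates -/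
def Dw' : ℕ → List ℕ
  | 0 => [10, 10, 7, 7]
  | 1 => [12, 12, 13, 13, 14, 14, 7, 7]
  | 2 => [9, 1, 2, 8, 1, 9, 5, 2, 11, 11, 12, 12]
  | 3 => [5, 1, 11, 11, 12, 12, 13, 14, 7, 7]
  | 4 => [1]
  | 5 => [2, 9, 1, 8, 2, 1, 12, 12, 13, 13, 14, 14, 7, 7]
  | _ => [5, 1, 2, 9, 2, 1, 5, 9, 10, 13, 13, 14, 7, 7, 7, 7, 7]

theorem D_chk : ((List.range 7).all fun k => eqW (3 :: Dw k) (Dw' k ++ [3]) && (Dw k).all gl && (Dw' k).all gl) = true := by
  decide +kernel

/-- the scalar commutant -/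
theorem scalar_of_comm (h3 : (3 : K) ≠ 0) {v : V} (hF : Fr ρ ζ v) (hd : finrank K V = 12) (X : V →ₗ[K] V)
    (hX : ∀ k < 7, ∀ v, X (ρ (W (Dw k)) v) = ρ (W (Dw k)) (X v)) : ∃ c : K, ∀ v, X v = c • v := by
  have hω : (ζ ^ 2) ^ 2 + ζ ^ 2 + 1 = 0 := by rw [← pow_mul]; exact hF.prim
  have hz0 : ζ ≠ 0 := by rintro rfl; have := hF.prim; norm_num at this
  -- weights of `us`
  have hus : ∀ (k : Fin 4) (x : Fin 12), ρ (W (us k)) (vec ρ v x) = (ζ ^ 2) ^ (exu k x / 2) • vec ρ v x := by
    intro k x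
    have e1 : ∀ w : List ℕ, (w.all fun l => Nat.ble 10 l && Nat.ble l 14) = true →
        ρ (W w) (vec ρ v x) = ζ ^ ((w.map fun l => ex (l - 10) x).sum) • vec ρ v x := by
      intro w
      induction w with
      | nil => intro _; rw [apply_W_nil]; simp
      | cons l w ih =>
        intro hw
        rw [List.all_cons, Bool.and_eq_true, Bool.and_eq_true] at hw
        have ha := Nat.le_of_ble_eq_true hw.1.1
        have hb := Nat.le_of_ble_eq_true hw.1.2
        rw [apply_W_cons, ih hw.2, map_smul]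
        have h4 := vec_wt hF.z hF.a x ⟨l - 10, by omega⟩
        have h5 : 10 + (l - 10) = l := by omega
        simp only [h5] at h4
        rw [h4, smul_smul, List.map_cons, List.sum_cons, pow_add]
        congr 1
        ring
    have h4 := e1 (us k) (List.all_eq_true.1 us_chk k (List.mem_range.2 k.2))
    rw [h4, ← pow_mul]
    have h5 := Nat.eq_of_beq_eq_true (List.all_eq_true.1 (List.all_eq_true.1 exu_even k (List.mem_range.2 k.2)) x
      (List.mem_range.2 x.2))
    have h6 : 2 * (exu k x / 2) = exu k x := by omega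
    rw [h6]
    rfl
  have hinj : Function.Injective fun (x : Fin 12) (k : Fin 4) => (ζ ^ 2) ^ (exu k x / 2) := by
    intro x x' h
    apply Fin.ext
    have h1 := List.all_eq_true.1 (List.all_eq_true.1 exu_chk x (List.mem_range.2 x.2)) x' (List.mem_range.2 x'.2)
    rw [Bool.or_eq_true] at h1
    rcases h1 with h1 | h1
    · exact Nat.eq_of_beq_eq_true h1
    · exfalso
      obtain ⟨k, hk, h2⟩ := List.any_eq_true.1 h1
      have h4 : (ζ ^ 2) ^ (exu k x / 2) = (ζ ^ 2) ^ (exu k x' / 2) := congrFun h ⟨k, List.mem_range.1 hk⟩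
      rw [← omega_mod hω (exu k x / 2), ← omega_mod hω (exu k x' / 2)] at h4
      have h5 := omega_inj hω h3 (Nat.mod_lt _ (by norm_num)) (Nat.mod_lt _ (by norm_num)) h4
      rw [h5] at h2
      simp at h2
  have hDu : ∀ k : Fin 4, Dw k = us k := by decide
  have hDg : ∀ k < 3, Dw (k + 4) = gs k := by
    intro k hk; interval_cases k <;> rfl
  have step1 : ∀ x : Fin 12, ∃ c : K, X (vec ρ v x) = c • vec ρ v x := by
    intro x
    obtain ⟨c, hc⟩ := smul_of_wt (fun k : Fin 4 => ρ (W (us k))) (fun (x : Fin 12) (k : Fin 4) => (ζ ^ 2) ^ (exu k x / 2))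
      hinj (bas h3 hF hd) (fun x k => by rw [bas_apply]; exact hus k x) (x₀ := x) (u := X (vec ρ v x)) (by
        intro k
        show ρ (W (us k)) (X (vec ρ v x)) = _
        have h4 := hX k (by omega) (vec ρ v x)
        rw [hDu k] at h4
        rw [← h4, hus, map_smul])
    exact ⟨c, by rw [hc, bas_apply]⟩
  obtain ⟨c, hc⟩ := step1 11
  rw [vec_last] at hc
  refine ⟨c, ?_⟩
  have hpath : ∀ (p : List ℕ) (_ : ∀ k ∈ p, k < 3) (w : V), X (ρ (W ((p.map gs).flatten)) w) =
      ρ (W ((p.map gs).flatten)) (X w) := by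
    intro p
    induction p with
    | nil => intro _ w; simp only [List.map_nil, List.flatten_nil, apply_W_nil]
    | cons k p ih =>
      intro hp w
      rw [List.map_cons, List.flatten_cons, apply_W_append, apply_W_append]
      have h4 := hX (k + 4) (by have := hp k List.mem_cons_self; omega) (ρ (W ((p.map gs).flatten)) w)
      rw [hDg k (hp k List.mem_cons_self)] at h4
      rw [h4, ih (fun l hl => hp l (List.mem_cons_of_mem _ hl))]
  have hlt : ∀ x < 12, ∀ k ∈ (paths.getD x ([], [])).1, k < 3 := by decide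
  have step2 : ∀ x : Fin 12, X (vec ρ v x) = c • vec ρ v x := by
    intro x
    have h1 := List.all_eq_true.1 path_chk x (List.mem_range.2 x.2)
    rw [Bool.and_eq_true] at h1
    have h4 := apply_eq (ρ := ρ) h1.1 v
    rw [apply_W_append, apply_st hF h1.2, map_smul] at h4
    have h5 := hpath (paths.getD x ([], [])).1 (hlt x x.2) v
    have h6 : (((paths.getD x ([], [])).1.map gs).flatten) = pathW x := rfl
    rw [h6, h4, hc, map_smul, map_smul, h4] at h5
    have h7 : ζ ^ (paths.getD x ([], [])).2.count 7 ≠ 0 := pow_ne_zero _ hz0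
    rw [smul_comm] at h5
    have h8 := smul_right_injective V h7 h5
    exact h8
  have key : X = c • (LinearMap.id : V →ₗ[K] V) := by
    apply (bas h3 hF hd).ext
    intro x
    rw [bas_apply, step2, LinearMap.smul_apply, LinearMap.id_apply]
  intro w
  rw [key, LinearMap.smul_apply, LinearMap.id_apply]

/-- **Uniqueness.** -/
theorem trace_unique (h3 : (3 : K) ≠ 0) {v : V} (hF : Fr ρ ζ v) (hd : finrank K V = 12) {v' : V'} (hF' : Fr τ ζ v')
    (hd' : finrank K V' = 12) (g : Y) : LinearMap.trace K V (ρ g) = LinearMap.trace K V' (τ g) := by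
  have hS := fun k hk => letter_mem_S h3 hF hd hF' hd' k hk
  have h3' : letter 3 ∈ Sc ρ τ (cmp h3 hF hd hF' hd') := by
    refine glue (D := {m | ∃ k < 7, m = W (Dw k)}) ?_ ?_
    · intro X hX
      exact scalar_of_comm h3 hF hd X (fun k hk => hX _ ⟨k, hk, rfl⟩)
    · rintro _ ⟨k, hk, rfl⟩
      have h1 := List.all_eq_true.1 D_chk k (List.mem_range.2 hk)
      rw [Bool.and_eq_true, Bool.and_eq_true] at h1
      refine ⟨W_mem hS h1.1.2, ?_⟩
      have h2 := W_eq h1.1.1
      rw [W_cons, W_append, W_one] at h2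
      rw [h2, mul_inv_cancel_right]
      exact W_mem hS h1.2
  have hSc : ∀ k, (gl k || Nat.beq k 3) = true → letter k ∈ Sc ρ τ (cmp h3 hF hd hF' hd') := by
    intro k hk
    rw [Bool.or_eq_true] at hk
    rcases hk with hk | hk
    · exact S_le_Sc (hS k hk)
    · rw [Nat.eq_of_beq_eq_true hk]; exact h3'
  have w0 : letter 0 ∈ Sc ρ τ (cmp h3 hF hd hF' hd') := by
    have e : W [0] = W [2, 3, 2, 3, 2, 3, 2, 3, 7, 7, 7] := W_eq (by decide +kernel)
    rw [← W_one, e]
    exact W_mem hSc (by decide)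
  have w4 : letter 4 ∈ Sc ρ τ (cmp h3 hF hd hF' hd') := by
    have e : W [4] = W [9, 3, 2, 9, 3, 8, 3, 9, 1, 2, 3, 9, 2, 9, 2, 1, 5, 1, 8, 10, 11, 11, 12, 12, 13, 14, 14, 7, 7, 7,
      7, 7] := W_eq (by decide +kernel)
    rw [← W_one, e]
    exact W_mem hSc (by decide)
  have w6 : letter 6 ∈ Sc ρ τ (cmp h3 hF hd hF' hd') := by
    have e : W [6] = W [8, 10, 10, 9, 5, 1, 3, 2, 3, 1, 9, 2, 8, 8, 8, 5, 11, 11, 12, 12, 13, 7, 7, 7] :=
      W_eq (by decide +kernel)
    rw [← W_one, e]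
    exact W_mem hSc (by decide)
  refine trace_eq perfect_Y (eq_top_of_gens ?_ (hSc 7 (by decide))) g
  intro x
  cases x
  · exact w0
  · exact hSc 1 (by decide)
  · exact hSc 2 (by decide)
  · exact h3'
  · exact w4
  · exact hSc 5 (by decide)
  · exact w6

end

end Cfsg.Agent.H878.Sz
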